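import Groth.Agent.NormalBase.Closure

/-!
# Normality after a normal base change, without finiteness on the algebra (EGA IV 6.14.1)
-/

universe u

namespace Groth.Agent.NormalBase

open TensorProduct

variable {A : Type u} [CommRing A]

/-- Normality of `M ⊗ R` is local on `R`. -/
theorem isNormalRing_tensor_of_localizations {M R : Type u} [CommRing M] [Algebra A M] [CommRing R] [Algebra A R]
    (h : ∀ (p : Ideal R) [p.IsPrime], EGA4.IsNormalRing (M ⊗[A] Localization.AtPrime p)) :
    EGA4.IsNormalRing (M ⊗[A] R) := by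
  intro Q _
  let p := Q.comap (Algebra.TensorProduct.includeRight (R := A) (A := M) : R →ₐ[A] M ⊗[A] R).toRingHom
  let Rp := Localization.AtPrime p
  let : Algebra (M ⊗[A] R) (M ⊗[A] Rp) :=
    (Algebra.TensorProduct.map (AlgHom.id M M) (IsScalarTower.toAlgHom A R Rp)).toRingHom.toAlgebra
  have : IsScalarTower M (M ⊗[A] R) (M ⊗[A] Rp) :=
    .of_algebraMap_eq fun c => ((Algebra.TensorProduct.map (AlgHom.id M M)
      (IsScalarTower.toAlgHom A R Rp)).commutes c).symm
  have hloc := IsLocalization.tensorProduct_tensorProduct_right (R := A) (S := M) p.primeCompl Rp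
    (RingHom.ext fun c => by simp [RingHom.algebraMap_toAlgebra])
  let N : Submonoid (M ⊗[A] R) := p.primeCompl.map (Algebra.TensorProduct.includeRight (R := A) (A := M))
  have hd : Disjoint (N : Set (M ⊗[A] R)) Q := Set.disjoint_left.mpr fun x hx hxQ => by
    obtain ⟨r, hr, rfl⟩ := hx
    exact hr hxQ
  let Q' := Q.map (algebraMap (M ⊗[A] R) (M ⊗[A] Rp))
  have : Q'.IsPrime := IsLocalization.isPrime_of_isPrime_disjoint N _ Q ‹_› hd
  have hQ' : Q'.comap (algebraMap (M ⊗[A] R) (M ⊗[A] Rp)) = Q :=
    IsLocalization.comap_map_of_isPrime_disjoint N _ ‹_› hd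
  have := IsLocalization.isLocalization_isLocalization_atPrime_isLocalization N (Localization.AtPrime Q') Q'
  have key : ∀ (P : Ideal (M ⊗[A] R)) [P.IsPrime]
      [IsLocalization P.primeCompl (Localization.AtPrime Q')], P = Q →
      IsDomain (Localization.AtPrime Q) ∧ IsIntegrallyClosed (Localization.AtPrime Q) := by
    rintro P _ _ rfl
    exact FlatAscent.normal_transport (IsLocalization.algEquiv P.primeCompl (Localization.AtPrime Q')
      (Localization.AtPrime P)).toRingEquiv (h p Q')
  exact key _ hQ'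

/-- Normality of `M ⊗ B` from that of `M ⊗ Frac B`. -/
theorem isNormalRing_tensor_of_fractionField [IsNoetherianRing A] {M B K : Type u} [CommRing M] [Algebra A M]
    [Module.Flat A M] [CommRing B] [IsDomain B] [IsLocalRing B] [IsIntegrallyClosed B] [Field K] [Algebra B K]
    [IsFractionRing B K] [Algebra A B] [Algebra A K] [IsScalarTower A B K]
    (hM : ∀ (κ : Type u) [Field κ] [Algebra A κ], IsReduced (M ⊗[A] κ))
    (hN : EGA4.IsNormalRing (M ⊗[A] K)) [IsNoetherianRing (M ⊗[A] K)] : EGA4.IsNormalRing (M ⊗[A] B) := by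
  let R := M ⊗[A] B
  let T := M ⊗[A] K
  let Q := FractionRing T
  let φ := Algebra.TensorProduct.map (AlgHom.id M M) (IsScalarTower.toAlgHom A B K)
  let : Algebra R T := φ.toRingHom.toAlgebra
  have : IsScalarTower M R T := .of_algebraMap_eq fun c => (φ.commutes c).symm
  have hloc := IsLocalization.tensorProduct_tensorProduct_right (R := A) (S := M) (nonZeroDivisors B) K
    (RingHom.ext fun c => by simp [φ, RingHom.algebraMap_toAlgebra])
  have hRQ : algebraMap R Q = (algebraMap T Q).comp (algebraMap R T) := IsScalarTower.algebraMap_eq R T Q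
  have hle : (nonZeroDivisors B).map (Algebra.TensorProduct.includeRight (R := A) (A := M) : B →ₐ[A] M ⊗[A] B) ≤
      nonZeroDivisors (M ⊗[A] B) := by
    rintro _ ⟨b, hb, rfl⟩
    refine mem_nonZeroDivisors_iff_right.mpr fun z hz => ?_
    have hu : IsUnit (incl M B K ((1 : M) ⊗ₜ[A] b)) := by
      show IsUnit ((1 : M) ⊗ₜ[A] algebraMap B K b)
      exact (IsUnit.mk0 _ (IsFractionRing.to_map_ne_zero_of_mem_nonZeroDivisors hb)).map
        (Algebra.TensorProduct.includeRight : K →ₐ[A] M ⊗[A] K)
    refine incl_injective B K (IsFractionRing.injective B K) ?_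
    have h1 : incl M B K z * incl M B K ((1 : M) ⊗ₜ[A] b) = 0 := by
      rw [← map_mul]; exact (congrArg _ hz).trans (map_zero _)
    rw [map_zero]
    exact hu.mul_left_eq_zero.mp h1
  have := NormalTensor.isFractionRing_of_localization (R := R) (T := T) (Q := Q) _ hle
  have := NormalTensor.isReduced_of_isNormalRing hN
  have := NormalTensor.isArtinianRing_fractionRing T
  have : IsReduced Q := isReduced_localizationPreserves (nonZeroDivisors T) Q inferInstance
  refine NormalTensor.isNormalRing_of_isIntegrallyClosed (R := R) (Q := Q) fun q hq => ?_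
  obtain ⟨t, rfl⟩ := (S6278.result T hN).algebraMap_eq_of_integral hq.tower_top
  obtain ⟨P, hP, hPz⟩ := hq
  have hint : (incl M B K).toRingHom.IsIntegralElem t := by
    refine ⟨P, hP, IsFractionRing.injective T Q ?_⟩
    rw [Polynomial.hom_eval₂, map_zero]
    rw [hRQ] at hPz
    exact hPz
  obtain ⟨r, hr⟩ := mem_range_of_isIntegrallyClosed hM t hint
  exact ⟨r, (RingHom.congr_fun hRQ r).trans (congrArg (algebraMap T Q) hr)⟩

/-- Filtered unions of subalgebras. -/
theorem isNormalRing_tensor_of_directed {M B : Type u} [CommRing M] [Algebra A M] [Module.Flat A M] [CommRing B]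
    [Algebra A B] {ι : Type u} [Preorder ι] [IsDirectedOrder ι] [Nonempty ι] (S : ι → Subalgebra A B) (hS : Monotone S)
    (hcover : ∀ b, ∃ i, b ∈ S i) (h : ∀ i, EGA4.IsNormalRing (M ⊗[A] S i)) : EGA4.IsNormalRing (M ⊗[A] B) := by
  let g : ∀ i, M ⊗[A] S i →ₐ[A] M ⊗[A] B := fun i => Algebra.TensorProduct.map (AlgHom.id A M) (S i).val
  let f : ∀ i j, i ≤ j → M ⊗[A] S i →ₐ[A] M ⊗[A] S j := fun i j h =>
    Algebra.TensorProduct.map (AlgHom.id A M) (Subalgebra.inclusion (hS h))
  have hgf : ∀ i j h, (g j).comp (f i j h) = g i := fun i j h => by ext x <;> rfl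
  have hff : ∀ i j r h₁ h₂, (f j r h₂).comp (f i j h₁) = f i r (le_trans h₁ h₂) := fun i j r h₁ h₂ => by
    ext x <;> rfl
  refine FlatAscent.isNormalRing_of_colimit (G := fun i => M ⊗[A] S i) (fun i j h => (f i j h).toRingHom)
    (fun i => (g i).toRingHom) (fun i j h x => AlgHom.congr_fun (hgf i j h) x)
    (fun i j r h₁ h₂ x => AlgHom.congr_fun (hff i j r h₁ h₂) x) (fun a => ?_) (fun i x hx => ⟨i, le_rfl, ?_⟩) h
  · induction a using TensorProduct.induction_on with
    | zero => exact ⟨Classical.arbitrary ι, 0, map_zero _⟩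
    | tmul a b =>
      obtain ⟨i, hi⟩ := hcover b
      exact ⟨i, a ⊗ₜ ⟨b, hi⟩, rfl⟩
    | add x y hx hy =>
      obtain ⟨i, x', rfl⟩ := hx
      obtain ⟨j, y', rfl⟩ := hy
      obtain ⟨r, h1, h2⟩ := exists_ge_ge i j
      refine ⟨r, f i r h1 x' + f j r h2 y', ?_⟩
      rw [map_add]
      exact congrArg₂ (· + ·) (AlgHom.congr_fun (hgf i r h1) x') (AlgHom.congr_fun (hgf j r h2) y')
  · have hinj : Function.Injective (g i) :=
      Module.Flat.lTensor_preserves_injective_linearMap (S i).val.toLinearMap Subtype.val_injective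
    have : x = 0 := hinj (by rw [map_zero]; exact hx)
    rw [this, map_zero]

/-- Fibres at the point under a field. -/
theorem exists_residue_algebra (A κ : Type u) [CommRing A] [Field κ] [Algebra A κ] :
    ∃ (q : Ideal A) (_ : q.IsPrime) (_ : Algebra q.ResidueField κ), IsScalarTower A q.ResidueField κ := by
  let q : Ideal A := RingHom.ker (algebraMap A κ)
  have : q.IsPrime := RingHom.ker_isPrime _
  letI := (Ideal.ResidueField.lift q (algebraMap A κ) le_rfl fun x hx => isUnit_iff_ne_zero.mpr hx).toAlgebra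
  exact ⟨q, inferInstance, inferInstance, IsScalarTower.of_algebraMap_eq fun x => (Ideal.ResidueField.lift_algebraMap ..).symm⟩

/-- Geometrically normal fibres stay reduced after any field extension. -/
theorem isReduced_tensor_field {A' : Type u} [CommRing A'] [Algebra A A']
    (h : ∀ (p : Ideal A) [p.IsPrime], EGA4.IsGeomNormal p.ResidueField (p.Fiber A'))
    (κ : Type u) [Field κ] [Algebra A κ] : IsReduced (A' ⊗[A] κ) := by
  obtain ⟨q, _, _, _⟩ := exists_residue_algebra A κ
  have := NormalTensor.isReduced_tensor_of_geomNormal (h q) κ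
  exact isReduced_of_injective _
    (((Algebra.TensorProduct.comm A A' κ).toRingEquiv.trans
      (Algebra.TensorProduct.cancelBaseChange A q.ResidueField κ κ A').symm.toRingEquiv).trans
      (Algebra.TensorProduct.comm q.ResidueField κ (q.Fiber A')).toRingEquiv).injective

/-- A normal local domain. -/
theorem isNormalRing_tensor_of_local [IsNoetherianRing A] {A' : Type u} [CommRing A'] [Algebra A A']
    [IsNoetherianRing A'] (h : EGA4.IsNormalHom A A') {B : Type u} [CommRing B] [IsDomain B] [IsLocalRing B]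
    [IsIntegrallyClosed B] [Algebra A B] : EGA4.IsNormalRing (A' ⊗[A] B) := by
  classical
  have := h.1
  let K := FractionRing B
  obtain ⟨q, _, _, _⟩ := exists_residue_algebra A K
  let F := q.ResidueField
  refine isNormalRing_tensor_of_directed (ι := Finset B)
    (fun s => ((IntermediateField.adjoin F (algebraMap B K '' (s : Set B))).toSubalgebra.restrictScalars A).comap
      (IsScalarTower.toAlgHom A B K))
    (fun s t h b hb => IntermediateField.adjoin.mono F _ _ (Set.image_mono (Finset.coe_subset.mpr h)) hb)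
    (fun b => ⟨{b}, IntermediateField.subset_adjoin F _ ⟨b, Finset.mem_coe.mpr (Finset.mem_singleton_self b), rfl⟩⟩)
    fun s => ?_
  generalize hL : IntermediateField.adjoin F (algebraMap B K '' (s : Set B)) = L
  let Bk := (L.toSubalgebra.restrictScalars A).comap (IsScalarTower.toAlgHom A B K)
  show EGA4.IsNormalRing (A' ⊗[A] Bk)
  have hmem : ∀ x : B, x ∈ Bk ↔ algebraMap B K x ∈ L := fun x => Iff.rfl
  let j : Bk →ₐ[A] L := ((IsScalarTower.toAlgHom A B K).comp Bk.val).codRestrict
    (L.toSubalgebra.restrictScalars A) fun b => b.2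
  let : Algebra Bk L := j.toRingHom.toAlgebra
  have : IsScalarTower A Bk L := .of_algebraMap_eq fun x => (j.commutes x).symm
  have hj : Function.Injective (algebraMap Bk L) := fun a b h =>
    Subtype.ext (IsFractionRing.injective B K (congrArg Subtype.val h))
  have : FaithfulSMul Bk L := (faithfulSMul_iff_algebraMap_injective Bk L).mpr hj
  -- every element of `L` is a quotient
  let Prat : K → Prop := fun z => ∃ r t : Bk, algebraMap B K t ≠ 0 ∧ algebraMap B K t * z = algebraMap B K r
  have hA : ∀ a : A, algebraMap A B a ∈ Bk := fun a => Bk.algebraMap_mem a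
  have hrat : ∀ z ∈ L, Prat z := by
    rw [← hL]
    intro z hz
    induction hz using IntermediateField.adjoin_induction with
    | mem x hx =>
      obtain ⟨b, hb, rfl⟩ := hx
      exact ⟨⟨b, (hmem b).mpr (hL ▸ IntermediateField.subset_adjoin F _ ⟨b, hb, rfl⟩)⟩, 1,
        by rw [OneMemClass.coe_one, map_one]; exact one_ne_zero, by rw [OneMemClass.coe_one, map_one, one_mul]⟩
    | algebraMap c =>
      obtain ⟨a, t, ht, rfl⟩ := IsFractionRing.div_surjective (A := A ⧸ q) c
      obtain ⟨a, rfl⟩ := Ideal.Quotient.mk_surjective a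
      obtain ⟨t, rfl⟩ := Ideal.Quotient.mk_surjective t
      have e : ∀ y : A, algebraMap F K (algebraMap (A ⧸ q) F (Ideal.Quotient.mk q y)) = algebraMap B K (algebraMap A B y) := fun y => by
        rw [show algebraMap (A ⧸ q) F (Ideal.Quotient.mk q y) = algebraMap A F y from
          (IsScalarTower.algebraMap_apply A (A ⧸ q) F y).symm, ← IsScalarTower.algebraMap_apply,
          ← IsScalarTower.algebraMap_apply]
      refine ⟨⟨_, hA a⟩, ⟨_, hA t⟩, ?_, ?_⟩
      · rw [← e]
        exact (map_ne_zero _).mpr (IsFractionRing.to_map_ne_zero_of_mem_nonZeroDivisors ht)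
      · show algebraMap B K (algebraMap A B t) * _ = algebraMap B K (algebraMap A B a)
        rw [map_div₀, ← e, ← e, mul_div_cancel₀]
        exact (map_ne_zero _).mpr (IsFractionRing.to_map_ne_zero_of_mem_nonZeroDivisors ht)
    | add x y _ _ hx hy =>
      obtain ⟨r, t, ht, e⟩ := hx
      obtain ⟨r', t', ht', e'⟩ := hy
      refine ⟨r * t' + r' * t, t * t', by rw [MulMemClass.coe_mul, map_mul]; exact mul_ne_zero ht ht', ?_⟩
      push_cast
      simp only [map_mul, map_add, ← e, ← e']
      ring
    | inv x _ hx =>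
      obtain ⟨r, t, ht, e⟩ := hx
      by_cases hx0 : x = 0
      · exact ⟨0, 1, by rw [OneMemClass.coe_one, map_one]; exact one_ne_zero, by simp [hx0]⟩
      · refine ⟨t, r, ?_, ?_⟩
        · rw [← e]; exact mul_ne_zero ht hx0
        · rw [← e, mul_assoc, mul_inv_cancel₀ hx0, mul_one]
    | mul x y _ _ hx hy =>
      obtain ⟨r, t, ht, e⟩ := hx
      obtain ⟨r', t', ht', e'⟩ := hy
      refine ⟨r * r', t * t', by rw [MulMemClass.coe_mul, map_mul]; exact mul_ne_zero ht ht', ?_⟩
      push_cast
      simp only [map_mul, ← e, ← e']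
      ring
  have : IsFractionRing Bk L := IsFractionRing.of_field _ _ fun z => by
    obtain ⟨r, t, ht, e⟩ := hrat z z.2
    refine ⟨r, t, Subtype.ext ?_⟩
    show (z : K) = algebraMap B K r / algebraMap B K t
    rw [eq_div_iff ht, mul_comm]
    exact e
  have : IsIntegrallyClosed Bk := (isIntegrallyClosed_iff L).mpr fun {z} hz => by
    obtain ⟨P, hP, hPz⟩ := hz
    have hint : IsIntegral B (z : K) := ⟨P.map Bk.val.toRingHom, hP.map _, by
      rw [Polynomial.eval₂_map]
      have := congrArg L.val hPz
      rw [map_zero] at this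
      rw [← this]
      exact (Polynomial.hom_eval₂ P (algebraMap Bk L) L.val.toRingHom z).symm⟩
    obtain ⟨b, hb⟩ := IsIntegrallyClosed.isIntegral_iff.mp hint
    exact ⟨⟨b, (hmem b).mpr (hb ▸ z.2)⟩, Subtype.ext hb⟩
  have hunit : ∀ x : Bk, IsUnit (x : B) → IsUnit x := fun x hx => by
    obtain ⟨y, hy⟩ := hx.exists_right_inv
    have hyL : algebraMap B K y ∈ L := by
      rw [show algebraMap B K y = (algebraMap B K x)⁻¹ from eq_inv_of_mul_eq_one_right (by rw [← map_mul, hy, map_one])]
      exact inv_mem x.2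
    exact IsUnit.of_mul_eq_one (⟨y, (hmem y).mpr hyL⟩ : Bk) (Subtype.ext hy)
  have : IsLocalRing Bk := IsLocalRing.of_isUnit_or_isUnit_one_sub_self fun x =>
    (IsLocalRing.isUnit_or_isUnit_one_sub_self (x : B)).imp (hunit x) fun hx => hunit (1 - x) hx
  have : Algebra.EssFiniteType F L := by
    subst hL
    rw [← Finset.coe_image]
    exact IntermediateField.essFiniteType_iff.mpr (IntermediateField.fg_adjoin_finset _)
  have : Algebra.EssFiniteType A L := Algebra.EssFiniteType.comp A F L
  have : IsNoetherianRing (A' ⊗[A] L) := Algebra.EssFiniteType.isNoetherianRing A' (A' ⊗[A] L)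
  refine isNormalRing_tensor_of_fractionField (K := L) (isReduced_tensor_field h.2) ?_
  exact FlatAscent.isNormalRing_of_ringEquiv
    ((Algebra.TensorProduct.cancelBaseChange A F L L A').toRingEquiv.trans
      (Algebra.TensorProduct.comm A L A').toRingEquiv)
    (NormalTensor.isNormalRing_field_tensor_of_geomNormal L (h.2 q))

/-- EGA IV 6.14.1. -/
theorem isNormalRing_tensor [IsNoetherianRing A] {A' : Type u} [CommRing A'] [Algebra A A'] [IsNoetherianRing A']
    (h : EGA4.IsNormalHom A A') {B : Type u} [CommRing B] [Algebra A B] (hB : EGA4.IsNormalRing B) :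
    EGA4.IsNormalRing (A' ⊗[A] B) :=
  isNormalRing_tensor_of_localizations fun p _ => by
    obtain ⟨_, _⟩ := hB p
    exact isNormalRing_tensor_of_local h

end Groth.Agent.NormalBase
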