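import Groth.Agent.NormalBase.Normal
import Groth.Agent.CohenStruct.N2
import Groth.Agent.CohenStruct.Local
import Groth.Agent.FlatAscent.Descent

/-!
# `M ⊗ B` is integrally closed in `M ⊗ Frac B` for flat `M` with reduced fibres and a normal local `B`
-/

universe u

namespace Groth.Agent.NormalBase

open TensorProduct Polynomial IsLocalRing

/-- Integrality descends from the normalizations of the completion. -/
theorem isIntegral_descent {C T K : Type u} [CommRing C] [CommRing T] [Nontrivial T] [IsNoetherianRing T] [Field K]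
    [Algebra C T] [Module.FaithfullyFlat C T] [Algebra C K] {b c : C} (hb : algebraMap C K b ≠ 0)
    (h : ∀ P ∈ minimalPrimes T, ∃ g : T[X], g.Monic ∧
      (g.scaleRoots (algebraMap C T b)).eval (algebraMap C T c) ∈ P) :
    IsIntegral C (algebraMap C K c / algebraMap C K b) := by
  classical
  choose g hg hgP using h
  let : Fintype (minimalPrimes T) := (minimalPrimes.finite_of_isNoetherianRing T).fintype
  let G : T[X] := ∏ P : minimalPrimes T, g P.1 P.2
  let b' := algebraMap C T b
  let c' := algebraMap C T c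
  have hG : G.Monic := monic_prod_of_monic _ _ fun P _ => hg _ _
  have hmul : ∀ p q : T[X], p.Monic → q.Monic →
      ((p * q).scaleRoots b').eval c' = (p.scaleRoots b').eval c' * (q.scaleRoots b').eval c' := fun p q hp hq => by
    rw [mul_scaleRoots' p q b' (by rw [hp.leadingCoeff, hq.leadingCoeff, mul_one]; exact one_ne_zero), eval_mul]
  have hnil : IsNilpotent ((G.scaleRoots b').eval c') := by
    rw [← mem_nilradical, nilradical, ← Ideal.sInf_minimalPrimes]
    refine Ideal.mem_sInf.mpr fun {P} hP => ?_
    show ((∏ Q : minimalPrimes T, g Q.1 Q.2).scaleRoots b').eval c' ∈ P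
    rw [← Finset.mul_prod_erase Finset.univ _ (Finset.mem_univ (⟨P, hP⟩ : minimalPrimes T)),
      hmul _ _ (hg _ _) (monic_prod_of_monic _ _ fun Q _ => hg _ _)]
    exact P.mul_mem_right _ (hgP P hP)
  obtain ⟨N, hN⟩ := hnil
  have hpow : ∀ n : ℕ, ((G ^ n).scaleRoots b').eval c' = (G.scaleRoots b').eval c' ^ n := fun n => by
    induction n with
    | zero => rw [pow_zero, one_scaleRoots, eval_one, pow_zero]
    | succ n ih => rw [pow_succ, hmul _ _ (hG.pow n) hG, ih, ← pow_succ]
  have hGN := (hpow N).trans hN
  let n := (G ^ N).natDegree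
  let J : Ideal C := Ideal.span (Set.range fun i : Fin n => b ^ (n - i) * c ^ (i : ℕ))
  have hmem : c ^ n ∈ J := by
    rw [← Ideal.comap_map_eq_self_of_faithfullyFlat (B := T) J, Ideal.mem_comap]
    rw [eval_eq_sum_range, natDegree_scaleRoots, Finset.sum_range_succ] at hGN
    rw [coeff_scaleRoots_natDegree, (hG.pow N).leadingCoeff, one_mul, add_eq_zero_iff_eq_neg'] at hGN
    rw [map_pow, hGN]
    refine neg_mem (sum_mem fun i hi => ?_)
    rw [coeff_scaleRoots, mul_assoc, ← map_pow, ← map_pow, ← map_mul]
    exact Ideal.mul_mem_left _ _ (Ideal.mem_map_of_mem _ (Ideal.subset_span ⟨⟨i, Finset.mem_range.mp hi⟩, rfl⟩))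
  obtain ⟨a, ha⟩ := Submodule.mem_span_range_iff_exists_fun C |>.mp hmem
  refine ⟨X ^ n - ∑ i : Fin n, Polynomial.C (a i) * X ^ (i : ℕ), monic_X_pow_sub (degree_sum_fin_lt a), ?_⟩
  rw [eval₂_sub, eval₂_pow, eval₂_X, eval₂_finsetSum, sub_eq_zero, div_pow,
    div_eq_iff (pow_ne_zero _ hb), Finset.sum_mul, ← map_pow, ← ha, map_sum]
  refine Finset.sum_congr rfl fun i _ => ?_
  rw [eval₂_mul, eval₂_C, eval₂_pow, eval₂_X, smul_eq_mul, map_mul, map_mul, map_pow, map_pow, div_pow]
  have hpow : algebraMap C K b ^ n = algebraMap C K b ^ (n - (i : ℕ)) * algebraMap C K b ^ (i : ℕ) := by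
    rw [← pow_add, Nat.sub_add_cancel i.2.le]
  rw [hpow]
  field_simp

variable {A : Type u} [CommRing A] {M : Type u} [CommRing M] [Algebra A M]

/-- Over a Noetherian local domain, integral elements of `M ⊗ Frac C` come from the integral closure. -/
theorem mem_range_of_local [Module.Flat A M]
    (hM : ∀ (κ : Type u) [Field κ] [Algebra A κ], IsReduced (M ⊗[A] κ))
    {C K : Type u} [CommRing C] [IsDomain C] [IsLocalRing C] [IsNoetherianRing C] [Algebra A C] [Field K]
    [Algebra A K] [Algebra C K] [IsScalarTower A C K] [IsFractionRing C K] (z : M ⊗[A] K)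
    (hz : (incl M C K).toRingHom.IsIntegralElem z) :
    z ∈ Set.range (incl M (integralClosure C K) K) := by
  classical
  let T := EGA4.Cpl C
  have := CohenStruct.isNoetherianRing_completion C
  have : Module.Flat C T := AdicCompletion.flat_of_isNoetherian _
  have : Module.FaithfullyFlat C T := Module.FaithfullyFlat.of_flat_of_isLocalHom
  let : Fintype (minimalPrimes T) := (minimalPrimes.finite_of_isNoetherianRing T).fintype
  have hinjT : ∀ P ∈ minimalPrimes T, ∀ x : C, x ≠ 0 → algebraMap C T x ∉ P := fun P hP x hx hmem => by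
    have hdis := Ideal.disjoint_nonZeroDivisors_of_mem_minimalPrimes hP
    refine Set.disjoint_left.mp hdis hmem (mem_nonZeroDivisors_iff_right.mpr fun y hy => ?_)
    have hinj : Function.Injective (LinearMap.lTensor T (LinearMap.lsmul C C x)) :=
      Module.Flat.lTensor_preserves_injective_linearMap _ fun a b hab => mul_left_cancel₀ hx hab
    have h0 : y ⊗ₜ[C] (1 : C) = 0 := hinj (by
      rw [LinearMap.lTensor_tmul, map_zero, LinearMap.lsmul_apply, TensorProduct.tmul_smul,
        TensorProduct.smul_tmul', Algebra.smul_def, mul_comm, hy, TensorProduct.zero_tmul])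
    have := congrArg (TensorProduct.rid C T) h0
    rwa [TensorProduct.rid_tmul, one_smul, map_zero] at this
  have hPp : ∀ P : minimalPrimes T, (P : Ideal T).IsPrime := fun P => P.2.1.1
  let L : minimalPrimes T → Type u := fun P => FractionRing (T ⧸ (P : Ideal T))
  have hθ : ∀ P : minimalPrimes T, Function.Injective (IsScalarTower.toAlgHom A C (L P)) := fun P => by
    refine (injective_iff_map_eq_zero _).mpr fun x hx => by_contra fun hne => hinjT P P.2 x hne ?_
    have h1 : algebraMap (T ⧸ (P : Ideal T)) (L P) (algebraMap C (T ⧸ (P : Ideal T)) x) = 0 := by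
      rw [← IsScalarTower.algebraMap_apply]; exact hx
    have h2 := (map_eq_zero_iff _ (IsFractionRing.injective _ (L P))).mp h1
    exact Ideal.Quotient.eq_zero_iff_mem.mp h2
  let θ : ∀ P : minimalPrimes T, K →ₐ[A] L P := fun P => IsFractionRing.liftAlgHom (hθ P)
  have hθC : ∀ P (x : C), θ P (algebraMap C K x) = algebraMap C (L P) x := fun P x =>
    (IsFractionRing.lift_algebraMap (hθ P) x)
  let D : ∀ P : minimalPrimes T, Subalgebra (T ⧸ (P : Ideal T)) (L P) := fun P => integralClosure _ _
  let h : K →ₗ[A] (∀ P : minimalPrimes T, L P ⧸ ((D P).restrictScalars A).toSubmodule) :=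
    LinearMap.pi fun P => (((D P).restrictScalars A).toSubmodule.mkQ).comp (θ P).toLinearMap
  have hex : Function.Exact (IsScalarTower.toAlgHom A (integralClosure C K) K).toLinearMap h := fun x => by
    refine ⟨fun hx => ?_, ?_⟩
    · obtain ⟨c, b, hb, rfl⟩ := IsFractionRing.div_surjective (A := C) x
      have hb' : algebraMap C K b ≠ 0 := IsFractionRing.to_map_ne_zero_of_mem_nonZeroDivisors hb
      refine ⟨⟨algebraMap C K c / algebraMap C K b, isIntegral_descent (T := T) hb' fun P hP => ?_⟩, rfl⟩
      let P' : minimalPrimes T := ⟨P, hP⟩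
      have hP' := hPp P'
      have h1 : θ P' (algebraMap C K c / algebraMap C K b) ∈ D P' :=
        (Submodule.Quotient.mk_eq_zero _).mp (congrFun hx P')
      obtain ⟨g, hg, hg0⟩ := h1
      obtain ⟨g', hg', -, hg'm⟩ := lifts_and_degree_eq_and_monic
        (f := Ideal.Quotient.mk P) ((lifts_iff_coeff_lifts g).mpr fun n => Ideal.Quotient.mk_surjective _) hg
      refine ⟨g', hg'm, ?_⟩
      rw [map_div₀, hθC, hθC, IsScalarTower.algebraMap_apply C (T ⧸ P) (L P') c,
        IsScalarTower.algebraMap_apply C (T ⧸ P) (L P') b] at hg0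
      have h2 := scaleRoots_eval₂_eq_zero_of_eval₂_div_eq_zero (f := algebraMap (T ⧸ P) (L P'))
        (IsFractionRing.injective _ _) hg0 (mem_nonZeroDivisors_of_ne_zero fun hb0 => hinjT P hP b (nonZeroDivisors.ne_zero hb)
          (Ideal.Quotient.eq_zero_iff_mem.mp hb0))
      rw [eval₂_at_apply, map_eq_zero_iff _ (IsFractionRing.injective _ _), ← hg',
        IsScalarTower.algebraMap_apply C T (T ⧸ P) b, IsScalarTower.algebraMap_apply C T (T ⧸ P) c] at h2
      change eval (Ideal.Quotient.mk P _) (Polynomial.scaleRoots (map (Ideal.Quotient.mk P) g') (Ideal.Quotient.mk P _)) = 0 at h2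
      rw [← map_scaleRoots _ _ _ (by rw [hg'm.leadingCoeff, map_one]; exact one_ne_zero), eval_map, eval₂_at_apply] at h2
      exact Ideal.Quotient.eq_zero_iff_mem.mp h2
    · rintro ⟨y, rfl⟩
      refine funext fun P => (Submodule.Quotient.mk_eq_zero _).mpr ?_
      obtain ⟨g, hg, hg0⟩ := (y.2 : IsIntegral C (y : K))
      refine ⟨g.map (algebraMap C (T ⧸ (P : Ideal T))), hg.map _, ?_⟩
      rw [eval₂_map, ← IsScalarTower.algebraMap_eq]
      have h3 := congrArg (θ P).toRingHom hg0
      rw [map_zero, hom_eval₂, show (θ P).toRingHom.comp (algebraMap C K) = algebraMap C (L P) from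
        RingHom.ext (hθC P)] at h3
      exact h3
  have hzero : LinearMap.lTensor M h z = 0 := by
    refine (TensorProduct.piRight A A M fun P : minimalPrimes T =>
      L P ⧸ ((D P).restrictScalars A).toSubmodule).injective (funext fun P => ?_)
    let zP := Algebra.TensorProduct.map (AlgHom.id A M) (θ P) z
    have hnat : ∀ u, TensorProduct.piRight A A M (fun P : minimalPrimes T => L P ⧸ ((D P).restrictScalars A).toSubmodule)
        (LinearMap.lTensor M h u) P =
        LinearMap.lTensor M (((D P).restrictScalars A).toSubmodule.mkQ) (Algebra.TensorProduct.map (AlgHom.id A M) (θ P) u) :=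
      fun u => by
      induction u using TensorProduct.induction_on with
      | zero => simp
      | tmul m a => simp [h]
      | add x y hx hy => simp only [map_add, Pi.add_apply, hx, hy]
    rw [hnat, map_zero, Pi.zero_apply]
    let Q := T ⧸ (P : Ideal T)
    have : IsLocalRing Q := .of_surjective' (Ideal.Quotient.mk _) Ideal.Quotient.mk_surjective
    have : IsAdicComplete (maximalIdeal Q) Q := by
      rw [← map_maximalIdeal_of_surjective (Ideal.Quotient.mk (P : Ideal T)) Ideal.Quotient.mk_surjective]
      exact AdicLim.isAdicComplete_quotient _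
    have hfin : Module.Finite Q (integralClosure Q (L P)) :=
      CohenStruct.isN2_of_complete Q (L P) inferInstance
    have : IsNoetherianRing (D P) := IsNoetherianRing.of_finite Q _
    have : Algebra.IsAlgebraic Q (L P) := IsLocalization.isAlgebraic _ (nonZeroDivisors Q)
    have : IsFractionRing (D P) (L P) := integralClosure.isFractionRing_of_algebraic fun x hx =>
      (map_eq_zero_iff _ (IsFractionRing.injective Q (L P))).mp hx
    have : IsIntegrallyClosed (D P) := (isIntegrallyClosed_iff (L P)).mpr fun {x} hx =>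
      ⟨⟨x, isIntegral_trans (R := Q) x hx⟩, rfl⟩
    let j : C →ₐ[A] D P := (IsScalarTower.toAlgHom A C (L P)).codRestrict ((D P).restrictScalars A) fun x => by
      show IsIntegral Q (algebraMap C (L P) x)
      rw [IsScalarTower.algebraMap_apply C Q (L P)]
      exact isIntegral_algebraMap
    have hint : (incl M (D P) (L P)).toRingHom.IsIntegralElem zP := by
      obtain ⟨g, hg, hg0⟩ := hz
      refine ⟨g.map (Algebra.TensorProduct.map (AlgHom.id A M) j).toRingHom, hg.map _, ?_⟩
      rw [eval₂_map]
      have h3 := congrArg (Algebra.TensorProduct.map (AlgHom.id A M) (θ P)).toRingHom hg0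
      rw [map_zero, hom_eval₂] at h3
      have he : (incl M (D P) (L P)).toRingHom.comp (Algebra.TensorProduct.map (AlgHom.id A M) j).toRingHom =
          (Algebra.TensorProduct.map (AlgHom.id A M) (θ P)).toRingHom.comp (incl M C K).toRingHom := by
        refine RingHom.ext fun u => ?_
        show incl M (D P) (L P) (Algebra.TensorProduct.map (AlgHom.id A M) j u) =
          Algebra.TensorProduct.map (AlgHom.id A M) (θ P) (incl M C K u)
        induction u using TensorProduct.induction_on with
        | zero => simp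
        | tmul m a => exact congrArg (m ⊗ₜ[A] ·) (hθC P a).symm
        | add x y hx hy => simp only [map_add, hx, hy]
      rw [he]
      exact h3
    obtain ⟨v, hv⟩ := mem_range_of_normal hM zP hint
    show LinearMap.lTensor M _ zP = 0
    rw [← hv]
    clear hv
    induction v using TensorProduct.induction_on with
    | zero => simp
    | tmul m c =>
      exact (congrArg (m ⊗ₜ[A] ·) ((Submodule.Quotient.mk_eq_zero ((D P).restrictScalars A).toSubmodule).mpr c.2)).trans
        (tmul_zero _ m)
    | add x y hx hy => rw [map_add, map_add, hx, hy, add_zero]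
  obtain ⟨v, hv⟩ := (Module.Flat.lTensor_exact M hex z).mp hzero
  exact ⟨v, hv⟩

/-- Transfer from a Noetherian local model `C ⊆ B`. -/
theorem mem_range_of_model [Module.Flat A M]
    (hM : ∀ (κ : Type u) [Field κ] [Algebra A κ], IsReduced (M ⊗[A] κ))
    {B K C : Type u} [CommRing B] [IsDomain B] [IsIntegrallyClosed B] [Algebra A B] [Field K]
    [Algebra A K] [Algebra B K] [IsScalarTower A B K] [IsFractionRing B K]
    [CommRing C] [IsDomain C] [IsLocalRing C] [IsNoetherianRing C] [Algebra A C]
    (ι : C →ₐ[A] B) (hι : Function.Injective ι) (z : M ⊗[A] K) (bC : C) (hbC : bC ≠ 0) (wC : M ⊗[A] C)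
    (hw : ((1 : M) ⊗ₜ algebraMap B K (ι bC)) * z = incl M B K (Algebra.TensorProduct.map (AlgHom.id A M) ι wC))
    (Q : (M ⊗[A] C)[X]) (hQ : Q.Monic)
    (hQz : (Q.map (Algebra.TensorProduct.map (AlgHom.id A M) ι).toRingHom).eval₂ (incl M B K).toRingHom z = 0) :
    z ∈ Set.range (incl M B K) := by
  let Kc := FractionRing C
  have hg : Function.Injective ((IsScalarTower.toAlgHom A B K).comp ι) :=
    (IsFractionRing.injective B K).comp hι
  let θ : Kc →ₐ[A] K := IsFractionRing.liftAlgHom hg
  have hθC : ∀ x : C, θ (algebraMap C Kc x) = algebraMap B K (ι x) := fun x =>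
    IsFractionRing.lift_algebraMap hg x
  let μ := Algebra.TensorProduct.map (AlgHom.id A M) θ
  have hμ : Function.Injective μ :=
    Module.Flat.lTensor_preserves_injective_linearMap θ.toLinearMap θ.toRingHom.injective
  let sb := Algebra.TensorProduct.map (AlgHom.id A M) ι
  have hcompat : ∀ u, μ (incl M C Kc u) = incl M B K (sb u) := fun u => by
    induction u using TensorProduct.induction_on with
    | zero => simp
    | tmul m a => exact congrArg (m ⊗ₜ[A] ·) (hθC a)
    | add x y hx hy => simp only [map_add, hx, hy]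
  have hbK : algebraMap C Kc bC ≠ 0 := (map_ne_zero_iff _ (IsFractionRing.injective C Kc)).mpr hbC
  let zc : M ⊗[A] Kc := ((1 : M) ⊗ₜ (algebraMap C Kc bC)⁻¹) * incl M C Kc wC
  have hzc : μ zc = z := by
    rw [map_mul, hcompat, ← hw, ← mul_assoc]
    rw [show μ ((1 : M) ⊗ₜ (algebraMap C Kc bC)⁻¹) = (1 : M) ⊗ₜ (algebraMap B K (ι bC))⁻¹ by
      show (1 : M) ⊗ₜ[A] θ _ = _
      rw [map_inv₀, hθC]]
    rw [Algebra.TensorProduct.tmul_mul_tmul, one_mul,
      inv_mul_cancel₀ ((map_ne_zero_iff _ (IsFractionRing.injective B K)).mpr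
        ((map_ne_zero_iff _ hι).mpr hbC)),
      ← Algebra.TensorProduct.one_def, one_mul]
  have hzcint : (incl M C Kc).toRingHom.IsIntegralElem zc := by
    refine ⟨Q, hQ, hμ ?_⟩
    rw [map_zero]
    show μ.toRingHom _ = 0
    rw [hom_eval₂]
    rw [eval₂_map] at hQz
    rw [show μ.toRingHom.comp (incl M C Kc).toRingHom = (incl M B K).toRingHom.comp sb.toRingHom from
      RingHom.ext hcompat, show μ.toRingHom zc = z from hzc]
    exact hQz
  obtain ⟨v, hv⟩ := mem_range_of_local hM zc hzcint
  rw [← hzc, ← hv]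
  clear hv
  induction v using TensorProduct.induction_on with
  | zero => exact ⟨0, by simp⟩
  | tmul m x =>
    obtain ⟨g, hgm, hg0⟩ := (x.2 : IsIntegral C (x : Kc))
    have hint : IsIntegral B (θ x) := by
      refine ⟨g.map ι.toRingHom, hgm.map _, ?_⟩
      have h3 := congrArg θ.toRingHom hg0
      rw [map_zero, hom_eval₂] at h3
      rw [eval₂_map, show (algebraMap B K).comp ι.toRingHom = θ.toRingHom.comp (algebraMap C Kc) from
        RingHom.ext fun c => (hθC c).symm]
      exact h3
    obtain ⟨y, hy⟩ := IsIntegrallyClosed.isIntegral_iff.mp hint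
    exact ⟨m ⊗ₜ y, congrArg (m ⊗ₜ[A] ·) hy⟩
  | add x y hx hy =>
    obtain ⟨x', hx'⟩ := hx
    obtain ⟨y', hy'⟩ := hy
    exact ⟨x' + y', by rw [map_add, map_add, map_add, hx', hy']⟩

/-- Integral closedness of `M ⊗ B` in `M ⊗ Frac B` for a normal local domain `B`. -/
theorem mem_range_of_isIntegrallyClosed [IsNoetherianRing A] [Module.Flat A M]
    (hM : ∀ (κ : Type u) [Field κ] [Algebra A κ], IsReduced (M ⊗[A] κ))
    {B K : Type u} [CommRing B] [IsDomain B] [IsLocalRing B] [IsIntegrallyClosed B] [Algebra A B] [Field K]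
    [Algebra A K] [Algebra B K] [IsScalarTower A B K] [IsFractionRing B K] (z : M ⊗[A] K)
    (hz : (incl M B K).toRingHom.IsIntegralElem z) : z ∈ Set.range (incl M B K) := by
  classical
  obtain ⟨b, hb, w, hw⟩ := exists_denominator (B := B) z
  obtain ⟨P, hPm, hPz⟩ := hz
  let rng : Subalgebra A B → Set (M ⊗[A] B) := fun S => Set.range (Algebra.TensorProduct.map (AlgHom.id A M) S.val)
  have hmono : ∀ S S' : Subalgebra A B, S ≤ S' → rng S ⊆ rng S' := by
    rintro S S' h _ ⟨x, rfl⟩
    refine ⟨Algebra.TensorProduct.map (AlgHom.id A M) (Subalgebra.inclusion h) x, ?_⟩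
    induction x using TensorProduct.induction_on with
    | zero => simp
    | tmul m a => rfl
    | add x y hx hy => simp only [map_add, hx, hy]
  have hcover : ∀ u : M ⊗[A] B, ∃ s : Finset B, u ∈ rng (Algebra.adjoin A (s : Set B)) := fun u => by
    induction u using TensorProduct.induction_on with
    | zero => exact ⟨∅, 0, map_zero _⟩
    | tmul m a => exact ⟨{a}, m ⊗ₜ ⟨a, Algebra.subset_adjoin (Finset.mem_coe.mpr (Finset.mem_singleton_self a))⟩, rfl⟩
    | add x y hx hy =>
      obtain ⟨s, hs⟩ := hx
      obtain ⟨t, ht⟩ := hy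
      obtain ⟨x', hx'⟩ := hmono _ (Algebra.adjoin A ((s ∪ t : Finset B) : Set B))
        (Algebra.adjoin_mono (Finset.coe_subset.mpr Finset.subset_union_left)) hs
      obtain ⟨y', hy'⟩ := hmono _ (Algebra.adjoin A ((s ∪ t : Finset B) : Set B))
        (Algebra.adjoin_mono (Finset.coe_subset.mpr Finset.subset_union_right)) ht
      exact ⟨s ∪ t, x' + y', by rw [map_add, hx', hy']⟩
  choose cov hcov using hcover
  let s : Finset B := {b} ∪ cov w ∪ (P.coeffs ∪ {0}).biUnion cov
  let S := Algebra.adjoin A (s : Set B)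
  have hsub : ∀ u, cov u ⊆ s → u ∈ rng S := fun u h =>
    hmono _ _ (Algebra.adjoin_mono (Finset.coe_subset.mpr h)) (hcov u)
  have : Algebra.FiniteType A S := (Subalgebra.fg_iff_finiteType S).mp (Subalgebra.fg_adjoin_finset s)
  have : IsNoetherianRing S := Algebra.FiniteType.isNoetherianRing A S
  let p : Ideal S := (maximalIdeal B).comap S.val
  let C := Localization.AtPrime p
  have hu : ∀ y : p.primeCompl, IsUnit (S.val.toRingHom y) := fun y => notMem_maximalIdeal.mp y.2
  let lift : C →+* B := IsLocalization.lift (M := p.primeCompl) hu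
  have hliftS : ∀ x : S, lift (algebraMap S C x) = x := fun x => IsLocalization.lift_eq hu x
  let ι : C →ₐ[A] B := { lift with
    commutes' := fun a => by
      show lift (algebraMap A C a) = algebraMap A B a
      rw [IsScalarTower.algebraMap_apply A S C, hliftS]; rfl }
  have hι : Function.Injective ι := (injective_iff_map_eq_zero ι).mpr fun x hx => by
    obtain ⟨r, t, rfl⟩ := IsLocalization.exists_mk'_eq p.primeCompl x
    have h1 : lift (IsLocalization.mk' C r t) = 0 := hx
    replace h1 := (IsLocalization.lift_mk'_spec (M := p.primeCompl) (S := C) (hg := hu) _ _ _).mp h1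
    rw [mul_zero] at h1
    rw [show r = 0 from Subtype.ext h1, IsLocalization.mk'_zero]
  have hle : p.primeCompl ≤ nonZeroDivisors S := p.primeCompl_le_nonZeroDivisors
  have : IsDomain C := IsLocalization.isDomain_localization hle
  have : IsNoetherianRing C := IsLocalization.isNoetherianRing p.primeCompl C inferInstance
  let sc := Algebra.TensorProduct.map (AlgHom.id A M) (IsScalarTower.toAlgHom A S C)
  let sb := Algebra.TensorProduct.map (AlgHom.id A M) S.val
  have hcompat : ∀ u, Algebra.TensorProduct.map (AlgHom.id A M) ι (sc u) = sb u := fun u => by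
    induction u using TensorProduct.induction_on with
    | zero => simp
    | tmul m a => exact congrArg (m ⊗ₜ[A] ·) (hliftS a)
    | add x y hx hy => simp only [map_add, hx, hy]
  have hbS : b ∈ S := Algebra.subset_adjoin (Finset.mem_coe.mpr (by simp [s]))
  obtain ⟨w', hw'⟩ := hsub w (by intro x hx; simp [s, hx])
  have hPl : P ∈ Polynomial.lifts sb.toRingHom := (lifts_iff_coeff_lifts P).mpr fun n => by
    refine hsub (P.coeff n) (fun x hx => ?_)
    refine Finset.mem_union_right _ (Finset.mem_biUnion.mpr ⟨P.coeff n, ?_, hx⟩)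
    by_cases h0 : P.coeff n = 0
    · rw [h0]; simp
    · exact Finset.mem_union_left _ (coeff_mem_coeffs h0)
  have hbι : ι (algebraMap S C ⟨b, hbS⟩) = b := hliftS _
  by_cases hMB : Nontrivial (M ⊗[A] B)
  · obtain ⟨P', hP', -, hP'm⟩ := lifts_and_degree_eq_and_monic hPl hPm
    refine mem_range_of_model hM ι hι z (algebraMap S C ⟨b, hbS⟩) (fun h0 => hb (by rw [← hbι, h0, map_zero]))
      (sc w') ?_ (P'.map sc.toRingHom) (hP'm.map _) ?_
    · rw [hcompat, show sb w' = w from hw', hbι]; exact hw
    · rw [Polynomial.map_map, show (Algebra.TensorProduct.map (AlgHom.id A M) ι).toRingHom.comp sc.toRingHom =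
        sb.toRingHom from RingHom.ext hcompat, hP']
      exact hPz
  · have : Subsingleton (M ⊗[A] B) := not_nontrivial_iff_subsingleton.mp hMB
    have h10 : (1 : M ⊗[A] K) = 0 := by
      rw [← map_one (incl M B K), Subsingleton.elim (1 : M ⊗[A] B) 0, map_zero]
    exact ⟨0, by rw [map_zero, ← mul_one z, h10, mul_zero]⟩

end Groth.Agent.NormalBase
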