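import Groth.Agent.NormalBase.Closure

/-!
# Integral closure commutes with flat base change with reduced fibres (EGA IV 6.14.4)
-/

universe u

namespace Groth.Agent.NormalBase

open TensorProduct Polynomial

variable {A : Type u} [CommRing A] {M : Type u} [CommRing M] [Algebra A M]

/-- `M ⊗ B` is integrally closed in `M ⊗ Frac B` for any integrally closed domain `B`. -/
theorem mem_range_of_domain [IsNoetherianRing A] [Module.Flat A M]
    (hM : ∀ (κ : Type u) [Field κ] [Algebra A κ], IsReduced (M ⊗[A] κ))
    {B K : Type u} [CommRing B] [IsDomain B] [IsIntegrallyClosed B] [Algebra A B] [Field K]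
    [Algebra A K] [Algebra B K] [IsScalarTower A B K] [IsFractionRing B K] (z : M ⊗[A] K)
    (hz : (incl M B K).toRingHom.IsIntegralElem z) : z ∈ Set.range (incl M B K) := by
  let I : Ideal B :=
    { carrier := {e | ((1 : M) ⊗ₜ algebraMap B K e) * z ∈ Set.range (incl M B K)}
      zero_mem' := ⟨0, by rw [map_zero, map_zero, TensorProduct.tmul_zero, zero_mul]⟩
      add_mem' := fun {x y} hx hy => by
        obtain ⟨v, hv⟩ := hx
        obtain ⟨w, hw⟩ := hy
        exact ⟨v + w, by rw [map_add, map_add, hv, hw, TensorProduct.tmul_add, add_mul]⟩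
      smul_mem' := fun c x hx => by
        obtain ⟨v, hv⟩ := hx
        refine ⟨((1 : M) ⊗ₜ[A] c) * v, ?_⟩
        rw [map_mul, hv, smul_eq_mul, map_mul, ← mul_assoc]
        congr 1
        show ((1 : M) ⊗ₜ[A] algebraMap B K c) * _ = _
        rw [Algebra.TensorProduct.tmul_mul_tmul, one_mul] }
  suffices I = ⊤ by
    obtain ⟨v, hv⟩ := (Ideal.eq_top_iff_one I).mp this
    exact ⟨v, by rw [hv, map_one, ← Algebra.TensorProduct.one_def, one_mul]⟩
  by_contra hne
  obtain ⟨p, hp, hIp⟩ := Ideal.exists_le_maximal I hne
  let V := Localization.AtPrime p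
  let : Algebra V K := (IsLocalization.lift (M := p.primeCompl) (S := V) (g := algebraMap B K)
    fun y => IsLocalization.map_units K (⟨y.1, p.primeCompl_le_nonZeroDivisors y.2⟩ : nonZeroDivisors B)).toAlgebra
  have : IsScalarTower B V K := .of_algebraMap_eq fun a => by
    show _ = IsLocalization.lift _ (algebraMap B V a)
    rw [IsLocalization.lift_eq]
  have : IsScalarTower A V K := .of_algebraMap_eq fun a => by
    rw [IsScalarTower.algebraMap_apply A B K, IsScalarTower.algebraMap_apply B V K,
      ← IsScalarTower.algebraMap_apply A B V]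
  have hle : p.primeCompl ≤ nonZeroDivisors B := p.primeCompl_le_nonZeroDivisors
  have : IsDomain V := IsLocalization.isDomain_localization hle
  have : IsFractionRing V K := IsFractionRing.isFractionRing_of_isDomain_of_isLocalization p.primeCompl V K
  have : IsIntegrallyClosed V := isIntegrallyClosed_of_isLocalization _ p.primeCompl hle
  let g := Algebra.TensorProduct.map (AlgHom.id A M) (IsScalarTower.toAlgHom A B V)
  have hg : ∀ u, incl M V K (g u) = incl M B K u := fun u => by
    induction u using TensorProduct.induction_on with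
    | zero => simp
    | tmul m a => exact congrArg (m ⊗ₜ[A] ·) (IsScalarTower.algebraMap_apply B V K a).symm
    | add x y hx hy => simp only [map_add, hx, hy]
  obtain ⟨R, hR, hRz⟩ := hz
  have hzV : (incl M V K).toRingHom.IsIntegralElem z := ⟨R.map g.toRingHom, hR.map _, by
    rw [eval₂_map, show (incl M V K).toRingHom.comp g.toRingHom = (incl M B K).toRingHom from RingHom.ext hg]
    exact hRz⟩
  obtain ⟨v, rfl⟩ := mem_range_of_isIntegrallyClosed hM z hzV
  have key : ∀ v : M ⊗[A] V, ∃ s ∈ p.primeCompl,
      ((1 : M) ⊗ₜ algebraMap B K s) * incl M V K v ∈ Set.range (incl M B K) := by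
    intro v
    induction v using TensorProduct.induction_on with
    | zero => exact ⟨1, one_mem _, 0, by rw [map_zero, map_zero, mul_zero]⟩
    | tmul m c =>
      obtain ⟨⟨a, s⟩, e⟩ := IsLocalization.surj p.primeCompl c
      refine ⟨s, s.2, m ⊗ₜ a, ?_⟩
      rw [Algebra.TensorProduct.map_tmul, Algebra.TensorProduct.map_tmul, Algebra.TensorProduct.tmul_mul_tmul, one_mul]
      show m ⊗ₜ[A] algebraMap B K a = m ⊗ₜ[A] (algebraMap B K s * algebraMap V K c)
      rw [IsScalarTower.algebraMap_apply B V K a, IsScalarTower.algebraMap_apply B V K (s : B), ← e, map_mul, mul_comm]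
    | add x y hx hy =>
      obtain ⟨s, hs, a, ha⟩ := hx
      obtain ⟨t, ht, b, hb⟩ := hy
      refine ⟨s * t, mul_mem hs ht, ((1 : M) ⊗ₜ t) * a + ((1 : M) ⊗ₜ s) * b, ?_⟩
      rw [map_add, map_add, map_mul, map_mul, ha, hb]
      show ((1 : M) ⊗ₜ[A] algebraMap B K t) * _ + ((1 : M) ⊗ₜ[A] algebraMap B K s) * _ = _
      rw [← mul_assoc, ← mul_assoc, Algebra.TensorProduct.tmul_mul_tmul, Algebra.TensorProduct.tmul_mul_tmul,
        one_mul, mul_comm (algebraMap B K t), ← map_mul, mul_add]
  obtain ⟨s, hs, hmem⟩ := key v
  exact hs (hIp hmem)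

/-- A field finitely generated over `A`. -/
theorem mem_range_field [IsNoetherianRing A] [Module.Flat A M]
    (hM : ∀ (κ : Type u) [Field κ] [Algebra A κ], IsReduced (M ⊗[A] κ))
    {B L : Type u} [CommRing B] [Algebra A B] [Field L] [Algebra A L] [Algebra B L] [IsScalarTower A B L]
    (t : Finset L) (hgen : Subfield.closure (Set.range (algebraMap A L) ∪ (t : Set L)) = ⊤) (z : M ⊗[A] L)
    (hz : (incl M B L).toRingHom.IsIntegralElem z) : z ∈ Set.range (incl M (integralClosure B L) L) := by
  classical
  let gen : Finset t → Set L := fun s => Set.range fun i : t => if i ∈ s then (i : L) else (i : L)⁻¹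
  let S : Finset t → Subalgebra B L := fun s => Algebra.adjoin B (gen s)
  let EA : Finset t → Subalgebra A L := fun s => (integralClosure (S s) L).restrictScalars A
  let h : L →ₗ[A] (∀ s : Finset t, L ⧸ (EA s).toSubmodule) := LinearMap.pi fun s => (EA s).toSubmodule.mkQ
  have hex : Function.Exact (IsScalarTower.toAlgHom A (integralClosure B L) L).toLinearMap h := fun x => by
    refine ⟨fun hx => ?_, ?_⟩
    · suffices IsIntegral B x from ⟨⟨x, this⟩, rfl⟩
      by_contra hni
      obtain ⟨V, hV, hxV⟩ := Subring.exists_le_valuationSubring_of_isIntegrallyClosedIn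
        (R := (integralClosure B L).toSubring) (x := x) hni
      let s : Finset t := Finset.univ.filter fun i => (i : L) ∈ V
      have hxS : IsIntegral (S s) x := (Submodule.Quotient.mk_eq_zero _).mp (congrFun hx s)
      have hSV : ∀ y ∈ S s, y ∈ V := fun y hy => by
        induction hy using Algebra.adjoin_induction with
        | mem y hy =>
          obtain ⟨i, rfl⟩ := hy
          show (if i ∈ s then (i : L) else (i : L)⁻¹) ∈ V
          split_ifs with hi
          · exact (Finset.mem_filter.mp hi).2
          · exact (V.mem_or_inv_mem (i : L)).resolve_left fun h => hi (Finset.mem_filter.mpr ⟨Finset.mem_univ _, h⟩)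
        | algebraMap b => exact hV (isIntegral_algebraMap : IsIntegral B (algebraMap B L b))
        | add a b _ _ ha hb => exact V.add_mem _ _ ha hb
        | mul a b _ _ ha hb => exact V.mul_mem _ _ ha hb
      obtain ⟨g, hg, hgx⟩ := hxS
      let φ : S s →+* V := (S s).val.toRingHom.codRestrict V.toSubring fun y => hSV y y.2
      have hxV' : IsIntegral V x := ⟨g.map φ, hg.map _, by rw [eval₂_map]; exact hgx⟩
      obtain ⟨y, hy⟩ := IsIntegrallyClosed.isIntegral_iff.mp hxV'
      exact hxV (hy ▸ y.2)
    · rintro ⟨y, rfl⟩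
      refine funext fun s => (Submodule.Quotient.mk_eq_zero _).mpr ?_
      show IsIntegral (S s) (y : L)
      exact IsIntegral.tower_top y.2
  have hzero : LinearMap.lTensor M h z = 0 := by
    refine (TensorProduct.piRight A A M fun s : Finset t => L ⧸ (EA s).toSubmodule).injective (funext fun s => ?_)
    have hnat : ∀ u, TensorProduct.piRight A A M (fun s : Finset t => L ⧸ (EA s).toSubmodule)
        (LinearMap.lTensor M h u) s = LinearMap.lTensor M ((EA s).toSubmodule.mkQ) u := fun u => by
      induction u using TensorProduct.induction_on with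
      | zero => simp
      | tmul m a => simp [h]
      | add x y hx hy => simp only [map_add, Pi.add_apply, hx, hy]
    rw [hnat, map_zero, Pi.zero_apply]
    let D := integralClosure (S s) L
    have hsub : Set.range (algebraMap A L) ∪ (t : Set L) ⊆ Subfield.closure (D : Set L) := by
      rintro y (⟨a, rfl⟩ | hy)
      · refine Subfield.subset_closure ?_
        show IsIntegral (S s) (algebraMap A L a)
        rw [IsScalarTower.algebraMap_apply A (S s) L]
        exact isIntegral_algebraMap
      · have hm : (if (⟨y, hy⟩ : t) ∈ s then y else y⁻¹) ∈ Subfield.closure (D : Set L) := by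
          refine Subfield.subset_closure ?_
          show IsIntegral (S s) _
          exact isIntegral_algebraMap (x := (⟨_, Algebra.subset_adjoin ⟨⟨y, hy⟩, rfl⟩⟩ : S s))
        by_cases hi : (⟨y, hy⟩ : t) ∈ s
        · simpa [hi] using hm
        · simp only [hi, if_false] at hm
          exact inv_inv y ▸ Subfield.inv_mem _ hm
    have : IsFractionRing D L := IsFractionRing.of_field _ _ fun w => by
      have hw : w ∈ Subfield.closure (D : Set L) := Subfield.closure_le.mpr hsub (hgen ▸ Subfield.mem_top w)
      obtain ⟨r, hr, q, hq, e⟩ := Subfield.mem_closure_iff.mp hw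
      have hD : Subring.closure (D : Set L) ≤ D.toSubring := Subring.closure_le.mpr fun a ha => ha
      exact ⟨⟨r, hD hr⟩, ⟨q, hD hq⟩, e.symm⟩
    have : IsIntegrallyClosed D := (isIntegrallyClosed_iff L).mpr fun {w} hw =>
      ⟨⟨w, isIntegral_trans (R := S s) w hw⟩, rfl⟩
    let j : B →ₐ[A] D := (IsScalarTower.toAlgHom A B L).codRestrict (EA s) fun b => by
      show IsIntegral (S s) (algebraMap B L b)
      rw [IsScalarTower.algebraMap_apply B (S s) L]
      exact isIntegral_algebraMap
    have hint : (incl M D L).toRingHom.IsIntegralElem z := by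
      obtain ⟨g, hg, hg0⟩ := hz
      refine ⟨g.map (Algebra.TensorProduct.map (AlgHom.id A M) j).toRingHom, hg.map _, ?_⟩
      have he : (incl M D L).toRingHom.comp (Algebra.TensorProduct.map (AlgHom.id A M) j).toRingHom =
          (incl M B L).toRingHom := by
        refine RingHom.ext fun u => ?_
        show incl M D L (Algebra.TensorProduct.map (AlgHom.id A M) j u) = incl M B L u
        induction u using TensorProduct.induction_on with
        | zero => simp
        | tmul m a => rfl
        | add x y hx hy => simp only [map_add, hx, hy]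
      rw [eval₂_map, he]
      exact hg0
    obtain ⟨v, rfl⟩ := mem_range_of_domain hM z hint
    clear hint hz
    induction v using TensorProduct.induction_on with
    | zero => simp
    | tmul m c =>
      exact (congrArg (m ⊗ₜ[A] ·) ((Submodule.Quotient.mk_eq_zero (EA s).toSubmodule).mpr c.2)).trans (tmul_zero _ m)
    | add x y hx hy => rw [map_add, map_add, hx, hy, add_zero]
  obtain ⟨v, hv⟩ := (Module.Flat.lTensor_exact M hex z).mp hzero
  exact ⟨v, hv⟩

/-- A finitely generated algebra. -/
theorem mem_range_finiteType [IsNoetherianRing A] [Module.Flat A M]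
    (hM : ∀ (κ : Type u) [Field κ] [Algebra A κ], IsReduced (M ⊗[A] κ))
    {B C : Type u} [CommRing B] [CommRing C] [Algebra A B] [Algebra A C] [Algebra B C] [IsScalarTower A B C]
    [Algebra.FiniteType A C] (z : M ⊗[A] C) (hz : (incl M B C).toRingHom.IsIntegralElem z) :
    z ∈ Set.range (incl M (integralClosure B C) C) := by
  classical
  have : IsNoetherianRing C := Algebra.FiniteType.isNoetherianRing A C
  let : Fintype (minimalPrimes C) := (minimalPrimes.finite_of_isNoetherianRing C).fintype
  have hPp : ∀ P : minimalPrimes C, (P : Ideal C).IsPrime := fun P => P.2.1.1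
  let L : minimalPrimes C → Type u := fun P => FractionRing (C ⧸ (P : Ideal C))
  let h : C →ₗ[A] (∀ P : minimalPrimes C, L P ⧸ ((integralClosure B (L P)).restrictScalars A).toSubmodule) :=
    LinearMap.pi fun P => (((integralClosure B (L P)).restrictScalars A).toSubmodule.mkQ).comp
      (IsScalarTower.toAlgHom A C (L P)).toLinearMap
  have hex : Function.Exact (IsScalarTower.toAlgHom A (integralClosure B C) C).toLinearMap h := fun x => by
    refine ⟨fun hx => ?_, ?_⟩
    · suffices IsIntegral B x from ⟨⟨x, this⟩, rfl⟩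
      have h1 : ∀ P : minimalPrimes C, ∃ g : B[X], g.Monic ∧ g.eval₂ (algebraMap B C) x ∈ (P : Ideal C) := fun P => by
        obtain ⟨g, hg, hg0⟩ : IsIntegral B (algebraMap C (L P) x) := (Submodule.Quotient.mk_eq_zero _).mp (congrFun hx P)
        refine ⟨g, hg, Ideal.Quotient.eq_zero_iff_mem.mp (IsFractionRing.injective (C ⧸ (P : Ideal C)) (L P) ?_)⟩
        rw [map_zero, ← hg0, IsScalarTower.algebraMap_eq B C (L P), ← hom_eval₂]
        exact (IsScalarTower.algebraMap_apply C (C ⧸ (P : Ideal C)) (L P) _).symm
      choose g hg hgP using h1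
      have hnil : IsNilpotent ((∏ P, g P).eval₂ (algebraMap B C) x) := by
        rw [← mem_nilradical, nilradical, ← Ideal.sInf_minimalPrimes]
        refine Ideal.mem_sInf.mpr fun {P} hP => ?_
        rw [eval₂_finsetProd, ← Finset.mul_prod_erase Finset.univ _ (Finset.mem_univ (⟨P, hP⟩ : minimalPrimes C))]
        exact P.mul_mem_right _ (hgP ⟨P, hP⟩)
      obtain ⟨N, hN⟩ := hnil
      exact ⟨(∏ P, g P) ^ N, (monic_prod_of_monic _ _ fun P _ => hg P).pow N, by rw [eval₂_pow]; exact hN⟩
    · rintro ⟨y, rfl⟩
      refine funext fun P => (Submodule.Quotient.mk_eq_zero _).mpr ?_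
      show IsIntegral B (algebraMap C (L P) (y : C))
      exact y.2.map (IsScalarTower.toAlgHom B C (L P))
  have hzero : LinearMap.lTensor M h z = 0 := by
    refine (TensorProduct.piRight A A M fun P : minimalPrimes C =>
      L P ⧸ ((integralClosure B (L P)).restrictScalars A).toSubmodule).injective (funext fun P => ?_)
    let ρ := Algebra.TensorProduct.map (AlgHom.id A M) (IsScalarTower.toAlgHom A C (L P))
    have hnat : ∀ u, TensorProduct.piRight A A M (fun P : minimalPrimes C =>
        L P ⧸ ((integralClosure B (L P)).restrictScalars A).toSubmodule) (LinearMap.lTensor M h u) P =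
        LinearMap.lTensor M (((integralClosure B (L P)).restrictScalars A).toSubmodule.mkQ) (ρ u) := fun u => by
      induction u using TensorProduct.induction_on with
      | zero => simp
      | tmul m a => simp [h, ρ]
      | add x y hx hy => simp only [map_add, Pi.add_apply, hx, hy]
    rw [hnat, map_zero, Pi.zero_apply]
    obtain ⟨G, hG⟩ := (Algebra.FiniteType.out : (⊤ : Subalgebra A C).FG)
    have hgen : Subfield.closure (Set.range (algebraMap A (L P)) ∪ ((G.image (algebraMap C (L P)) : Finset (L P)) : Set (L P))) = ⊤ := by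
      refine eq_top_iff.mpr fun w _ => ?_
      obtain ⟨a, b, -, rfl⟩ := IsFractionRing.div_surjective (A := C ⧸ (P : Ideal C)) w
      obtain ⟨a, rfl⟩ := Ideal.Quotient.mk_surjective a
      obtain ⟨b, rfl⟩ := Ideal.Quotient.mk_surjective b
      have key : ∀ c : C, algebraMap C (L P) c ∈ Subfield.closure
          (Set.range (algebraMap A (L P)) ∪ ((G.image (algebraMap C (L P)) : Finset (L P)) : Set (L P))) := fun c => by
        have hc : c ∈ Algebra.adjoin A (G : Set C) := hG ▸ Algebra.mem_top
        induction hc using Algebra.adjoin_induction with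
        | mem y hy => exact Subfield.subset_closure (Or.inr (Finset.mem_coe.mpr (Finset.mem_image_of_mem _ hy)))
        | algebraMap a => rw [← IsScalarTower.algebraMap_apply]; exact Subfield.subset_closure (Or.inl ⟨a, rfl⟩)
        | add a b _ _ ha hb => rw [map_add]; exact add_mem ha hb
        | mul a b _ _ ha hb => rw [map_mul]; exact mul_mem ha hb
      refine div_mem ?_ ?_
      · exact key a
      · exact key b
    have hint : (incl M B (L P)).toRingHom.IsIntegralElem (ρ z) := by
      obtain ⟨g, hg, hg0⟩ := hz
      refine ⟨g, hg, ?_⟩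
      have h3 := congrArg ρ.toRingHom hg0
      rw [map_zero, hom_eval₂] at h3
      have he : ρ.toRingHom.comp (incl M B C).toRingHom = (incl M B (L P)).toRingHom := by
        refine RingHom.ext fun u => ?_
        show ρ (incl M B C u) = incl M B (L P) u
        induction u using TensorProduct.induction_on with
        | zero => simp
        | tmul m a => exact congrArg (m ⊗ₜ[A] ·) (IsScalarTower.algebraMap_apply B C (L P) a).symm
        | add x y hx hy => simp only [map_add, hx, hy]
      rw [he] at h3
      exact h3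
    obtain ⟨v, hv⟩ := mem_range_field hM _ hgen (ρ z) hint
    rw [← hv]
    clear hv
    induction v using TensorProduct.induction_on with
    | zero => simp
    | tmul m c =>
      exact (congrArg (m ⊗ₜ[A] ·) ((Submodule.Quotient.mk_eq_zero
        ((integralClosure B (L P)).restrictScalars A).toSubmodule).mpr c.2)).trans (tmul_zero _ m)
    | add x y hx hy => rw [map_add, map_add, hx, hy, add_zero]
  obtain ⟨v, hv⟩ := (Module.Flat.lTensor_exact M hex z).mp hzero
  exact ⟨v, hv⟩

/-- Every element of `M ⊗ B` comes from a finitely generated subalgebra. -/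
theorem exists_finset_mem {B : Type u} [CommRing B] [Algebra A B] (u : M ⊗[A] B) :
    ∃ s : Finset B, ∀ S : Subalgebra A B, (s : Set B) ⊆ S →
      u ∈ Set.range (Algebra.TensorProduct.map (AlgHom.id A M) S.val) := by
  classical
  induction u using TensorProduct.induction_on with
  | zero => exact ⟨∅, fun S _ => ⟨0, map_zero _⟩⟩
  | tmul m a => exact ⟨{a}, fun S hS => ⟨m ⊗ₜ ⟨a, hS (Finset.mem_coe.mpr (Finset.mem_singleton_self a))⟩, rfl⟩⟩
  | add x y hx hy =>
    obtain ⟨s, hs⟩ := hx
    obtain ⟨t, ht⟩ := hy
    refine ⟨s ∪ t, fun S hS => ?_⟩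
    obtain ⟨x', hx'⟩ := hs S ((Finset.coe_subset.mpr Finset.subset_union_left).trans hS)
    obtain ⟨y', hy'⟩ := ht S ((Finset.coe_subset.mpr Finset.subset_union_right).trans hS)
    exact ⟨x' + y', by rw [map_add, hx', hy']⟩

/-- EGA IV 6.14.4: integral elements of `M ⊗ C` over `M ⊗ B` come from the integral closure of `B` in `C`. -/
theorem mem_range_integralClosure [IsNoetherianRing A] [Module.Flat A M]
    (hM : ∀ (κ : Type u) [Field κ] [Algebra A κ], IsReduced (M ⊗[A] κ))
    {B C : Type u} [CommRing B] [CommRing C] [Algebra A B] [Algebra A C] [Algebra B C] [IsScalarTower A B C]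
    (z : M ⊗[A] C) (hz : (incl M B C).toRingHom.IsIntegralElem z) :
    z ∈ Set.range (incl M (integralClosure B C) C) := by
  classical
  by_cases hnt : Nontrivial (M ⊗[A] C)
  swap
  · have : Subsingleton (M ⊗[A] C) := not_nontrivial_iff_subsingleton.mp hnt
    exact ⟨0, Subsingleton.elim _ _⟩
  have : Nontrivial (M ⊗[A] B) := (incl M B C).toRingHom.domain_nontrivial
  obtain ⟨P, hPm, hPz⟩ := hz
  choose covB hcovB using exists_finset_mem (A := A) (M := M) (B := B)
  obtain ⟨U, hU⟩ := exists_finset_mem (A := A) (M := M) (B := C) z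
  let T : Finset B := (P.coeffs ∪ {0}).biUnion covB
  let B₀ := Algebra.adjoin A (T : Set B)
  let C₀ := Algebra.adjoin A ((U ∪ T.image (algebraMap B C) : Finset C) : Set C)
  have : Algebra.FiniteType A C₀ := (Subalgebra.fg_iff_finiteType C₀).mp (Subalgebra.fg_adjoin_finset _)
  have hB₀ : B₀ ≤ C₀.comap (IsScalarTower.toAlgHom A B C) := Algebra.adjoin_le fun b hb =>
    Algebra.subset_adjoin (Finset.mem_coe.mpr (Finset.mem_union_right _ (Finset.mem_image_of_mem _ hb)))
  let j : B₀ →ₐ[A] C₀ := ((IsScalarTower.toAlgHom A B C).comp B₀.val).codRestrict C₀ fun b => hB₀ b.2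
  let : Algebra B₀ C₀ := j.toRingHom.toAlgebra
  have : IsScalarTower A B₀ C₀ := .of_algebraMap_eq fun a => (j.commutes a).symm
  obtain ⟨z₀, hz₀⟩ := hU C₀ fun c hc =>
    Algebra.subset_adjoin (Finset.mem_coe.mpr (Finset.mem_union_left _ hc))
  let sb := Algebra.TensorProduct.map (AlgHom.id A M) B₀.val
  let sc := Algebra.TensorProduct.map (AlgHom.id A M) C₀.val
  have hcomm : sc.toRingHom.comp (incl M B₀ C₀).toRingHom = (incl M B C).toRingHom.comp sb.toRingHom := by
    refine RingHom.ext fun u => ?_
    show sc (incl M B₀ C₀ u) = incl M B C (sb u)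
    induction u using TensorProduct.induction_on with
    | zero => simp
    | tmul m a => rfl
    | add x y hx hy => simp only [map_add, hx, hy]
  have hsc : Function.Injective sc :=
    Module.Flat.lTensor_preserves_injective_linearMap C₀.val.toLinearMap Subtype.val_injective
  have hPl : P ∈ Polynomial.lifts sb.toRingHom := (lifts_iff_coeff_lifts P).mpr fun n => by
    refine hcovB (P.coeff n) B₀ fun b hb => Algebra.subset_adjoin (Finset.mem_coe.mpr (Finset.mem_biUnion.mpr ⟨P.coeff n, ?_, hb⟩))
    by_cases h0 : P.coeff n = 0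
    · rw [h0]; simp
    · exact Finset.mem_union_left _ (coeff_mem_coeffs h0)
  obtain ⟨P', hP', -, hP'm⟩ := lifts_and_degree_eq_and_monic hPl hPm
  have hint : (incl M B₀ C₀).toRingHom.IsIntegralElem z₀ := by
    refine ⟨P', hP'm, hsc ?_⟩
    rw [map_zero]
    show sc.toRingHom _ = 0
    rw [hom_eval₂, hcomm, ← eval₂_map, hP', show sc.toRingHom z₀ = z from hz₀]
    exact hPz
  obtain ⟨v, hv⟩ := mem_range_finiteType hM z₀ hint
  rw [← hz₀, ← hv]
  clear hv
  induction v using TensorProduct.induction_on with
  | zero => exact ⟨0, by simp⟩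
  | tmul m x =>
    obtain ⟨g, hgm, hg0⟩ := (x.2 : IsIntegral B₀ (x : C₀))
    have hx : IsIntegral B ((x : C₀) : C) := by
      refine ⟨g.map B₀.val.toRingHom, hgm.map _, ?_⟩
      have h3 := congrArg C₀.val.toRingHom hg0
      rw [map_zero, hom_eval₂] at h3
      rw [eval₂_map]
      exact h3
    exact ⟨m ⊗ₜ ⟨_, hx⟩, rfl⟩
  | add x y hx hy =>
    obtain ⟨x', hx'⟩ := hx
    obtain ⟨y', hy'⟩ := hy
    exact ⟨x' + y', by rw [map_add, map_add, map_add, hx', hy']⟩

end Groth.Agent.NormalBase
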