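import Groth.Agent.NormalTensor.Main
import Groth.Agent.FibreP.Good
import Groth.Agent.S14359
import Mathlib.RingTheory.DiscreteValuationRing.TFAE

/-!
# `M ⊗ D` is integrally closed in `M ⊗ Frac D` for flat `M` with reduced fibres and Noetherian normal `D`
-/

universe u

namespace Groth.Agent.NormalBase

open TensorProduct Polynomial IsLocalRing

variable {A : Type u} [CommRing A] {M : Type u} [CommRing M] [Algebra A M]

/-- The map `M ⊗ B → M ⊗ K`. -/
noncomputable abbrev incl (M : Type u) [CommRing M] [Algebra A M] (B K : Type u) [CommRing B] [Algebra A B]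
    [CommRing K] [Algebra A K] [Algebra B K] [IsScalarTower A B K] : M ⊗[A] B →ₐ[A] M ⊗[A] K :=
  Algebra.TensorProduct.map (AlgHom.id A M) (IsScalarTower.toAlgHom A B K)

theorem incl_injective [Module.Flat A M] (B K : Type u) [CommRing B] [Algebra A B] [CommRing K] [Algebra A K]
    [Algebra B K] [IsScalarTower A B K] (h : Function.Injective (algebraMap B K)) :
    Function.Injective (incl (A := A) M B K) :=
  Module.Flat.lTensor_preserves_injective_linearMap (IsScalarTower.toAlgHom A B K).toLinearMap h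

/-- Common denominators. -/
theorem exists_denominator {B K : Type u} [CommRing B] [IsDomain B] [Algebra A B] [Field K] [Algebra A K]
    [Algebra B K] [IsScalarTower A B K] [IsFractionRing B K] (z : M ⊗[A] K) :
    ∃ (b : B) (_ : b ≠ 0) (w : M ⊗[A] B), (1 ⊗ₜ algebraMap B K b) * z = incl M B K w := by
  induction z using TensorProduct.induction_on with
  | zero => exact ⟨1, one_ne_zero, 0, by rw [mul_zero, map_zero]⟩
  | tmul m x =>
    obtain ⟨a, b, hb, rfl⟩ := IsFractionRing.div_surjective (A := B) x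
    refine ⟨b, nonZeroDivisors.ne_zero hb, m ⊗ₜ a, ?_⟩
    rw [Algebra.TensorProduct.map_tmul, Algebra.TensorProduct.tmul_mul_tmul, one_mul]
    show m ⊗ₜ[A] _ = m ⊗ₜ[A] algebraMap B K a
    rw [mul_div_cancel₀ _ (IsFractionRing.to_map_ne_zero_of_mem_nonZeroDivisors hb)]
  | add x y hx hy =>
    obtain ⟨b, hb, w, hw⟩ := hx
    obtain ⟨c, hc, v, hv⟩ := hy
    refine ⟨b * c, mul_ne_zero hb hc, (1 ⊗ₜ c) * w + (1 ⊗ₜ b) * v, ?_⟩
    rw [map_add, map_mul, map_mul, map_mul, ← hw, ← hv]
    show _ = ((1 : M) ⊗ₜ[A] algebraMap B K c) * _ + ((1 : M) ⊗ₜ[A] algebraMap B K b) * _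
    rw [← mul_assoc, ← mul_assoc, Algebra.TensorProduct.tmul_mul_tmul, Algebra.TensorProduct.tmul_mul_tmul,
      one_mul, mul_comm (algebraMap B K c), mul_add]

/-- One step: division by a uniformizer. -/
theorem mem_range_of_mul_mem [Module.Flat A M]
    (hM : ∀ (κ : Type u) [Field κ] [Algebra A κ], IsReduced (M ⊗[A] κ))
    {V L : Type u} [CommRing V] [IsDomain V] [IsLocalRing V] [Algebra A V] [Field L] [Algebra A L] [Algebra V L]
    [IsScalarTower A V L] [IsFractionRing V L] {π : V} (hπ : maximalIdeal V = Ideal.span {π}) (hπ0 : π ≠ 0)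
    (z : M ⊗[A] L) (hz : (incl M V L).toRingHom.IsIntegralElem z) (w : M ⊗[A] V)
    (hw : (1 ⊗ₜ algebraMap V L π) * z = incl M V L w) : z ∈ Set.range (incl M V L) := by
  let κ := ResidueField V
  let r : V →ₗ[A] κ := (IsScalarTower.toAlgHom A V κ).toLinearMap
  let μ : V →ₗ[A] V := (LinearMap.mulLeft A π)
  have hex : Function.Exact μ r := fun v => by
    show residue V v = 0 ↔ v ∈ Set.range fun x => π * x
    rw [residue_eq_zero_iff, hπ, Ideal.mem_span_singleton']
    exact ⟨fun ⟨a, ha⟩ => ⟨a, (mul_comm π a).trans ha⟩, fun ⟨a, ha⟩ => ⟨a, (mul_comm a π).trans ha⟩⟩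
  have hexM := Module.Flat.lTensor_exact M hex
  let g := Algebra.TensorProduct.map (AlgHom.id A M) (IsScalarTower.toAlgHom A V κ)
  by_cases hg : g w = 0
  · obtain ⟨v, hv⟩ := (hexM w).mp hg
    refine ⟨v, ?_⟩
    have hμ : ∀ u, LinearMap.lTensor M μ u = ((1 : M) ⊗ₜ[A] π) * u := fun u => by
      induction u using TensorProduct.induction_on with
      | zero => simp
      | tmul m a => simp [μ]
      | add a b ha hb => rw [map_add, ha, hb, mul_add]
    have hu : IsUnit ((1 : M) ⊗ₜ[A] algebraMap V L π) :=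
      (IsUnit.mk0 _ ((map_ne_zero_iff _ (IsFractionRing.injective V L)).mpr hπ0)).map
        (Algebra.TensorProduct.includeRight : L →ₐ[A] M ⊗[A] L)
    refine hu.mul_left_cancel ?_
    rw [hw, ← hv, hμ, map_mul]
    rfl
  exfalso
  obtain ⟨P, hPm, hPz⟩ := hz
  have h0 := scaleRoots_eval₂_eq_zero (incl M V L).toRingHom hPz (s := (1 : M) ⊗ₜ π)
  rw [show (incl M V L).toRingHom ((1 : M) ⊗ₜ[A] π) * z = (incl M V L).toRingHom w from hw, eval₂_at_apply] at h0
  have h1 : (P.scaleRoots ((1 : M) ⊗ₜ π)).eval w = 0 :=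
    incl_injective V L (IsFractionRing.injective V L) (h0.trans (map_zero _).symm)
  have hσ : g ((1 : M) ⊗ₜ π) = 0 := by
    show (1 : M) ⊗ₜ[A] (residue V π) = 0
    rw [(residue_eq_zero_iff π).mpr (hπ ▸ Ideal.mem_span_singleton_self π), tmul_zero]
  have : Nontrivial (M ⊗[A] κ) := ⟨⟨g w, 0, hg⟩⟩
  have h2 := congrArg g.toRingHom h1
  rw [map_zero, ← eval₂_at_apply, ← eval_map, map_scaleRoots _ _ _ (by
    rw [hPm.leadingCoeff, map_one]; exact one_ne_zero)] at h2
  rw [show g.toRingHom ((1 : M) ⊗ₜ[A] π) = 0 from hσ, scaleRoots_zero, (hPm.map _).leadingCoeff, one_smul,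
    eval_pow, eval_X] at h2
  have := hM κ
  exact hg (IsNilpotent.eq_zero ⟨_, h2⟩)

/-- The case of a local ring with principal maximal ideal. -/
theorem mem_range_of_principal [Module.Flat A M]
    (hM : ∀ (κ : Type u) [Field κ] [Algebra A κ], IsReduced (M ⊗[A] κ))
    {V L : Type u} [CommRing V] [IsDomain V] [IsLocalRing V] [IsNoetherianRing V] [Algebra A V] [Field L]
    [Algebra A L] [Algebra V L] [IsScalarTower A V L] [IsFractionRing V L] {π : V}
    (hπ : maximalIdeal V = Ideal.span {π}) (hπ0 : π ≠ 0) (z : M ⊗[A] L)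
    (hz : (incl M V L).toRingHom.IsIntegralElem z) : z ∈ Set.range (incl M V L) := by
  obtain ⟨b, hb, w, hw⟩ := exists_denominator (B := V) z
  obtain ⟨n, c, rfl, hc⟩ := FibreP.exists_eq_pow_mul (hπ ▸ Ideal.mem_span_singleton_self π) hb
  have hcu : IsUnit c := notMem_maximalIdeal.mp fun h => hc (hπ ▸ h)
  have key : ∀ (n : ℕ) (y : M ⊗[A] L), (incl M V L).toRingHom.IsIntegralElem y →
      (1 ⊗ₜ algebraMap V L (π ^ n)) * y ∈ Set.range (incl M V L) → y ∈ Set.range (incl M V L) := by
    intro n
    induction n with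
    | zero => intro y _ h; rwa [pow_zero, map_one, ← Algebra.TensorProduct.one_def, one_mul] at h
    | succ n ih =>
      intro y hy h
      refine ih y hy ?_
      obtain ⟨v, hv⟩ := h
      have hint : (incl M V L).toRingHom.IsIntegralElem ((1 : M) ⊗ₜ[A] algebraMap V L (π ^ n)) := by
        have h1 := RingHom.isIntegralElem_map (incl M V L).toRingHom (x := (1 : M) ⊗ₜ[A] (π ^ n))
        have h2 : (incl M V L).toRingHom ((1 : M) ⊗ₜ[A] (π ^ n)) = (1 : M) ⊗ₜ[A] algebraMap V L (π ^ n) :=
          Algebra.TensorProduct.map_tmul _ _ _ _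
        rw [h2] at h1
        exact h1
      refine mem_range_of_mul_mem hM hπ hπ0 _ (RingHom.IsIntegralElem.mul _ hint hy) v ?_
      rw [hv, ← mul_assoc]
      congr 1
      show _ * ((1 : M) ⊗ₜ[A] algebraMap V L (π ^ n)) = _
      rw [Algebra.TensorProduct.tmul_mul_tmul, one_mul, ← map_mul, ← pow_succ']
  refine key n z hz ⟨(1 ⊗ₜ (↑hcu.unit⁻¹ : V)) * w, ?_⟩
  rw [map_mul, ← hw, ← mul_assoc]
  congr 1
  show ((1 : M) ⊗ₜ[A] algebraMap V L _) * _ = _
  rw [Algebra.TensorProduct.tmul_mul_tmul, one_mul, ← map_mul, mul_comm (π ^ n), ← mul_assoc,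
    IsUnit.val_inv_mul, one_mul]

/-- Noetherian normal domains. -/
theorem mem_range_of_normal [Module.Flat A M]
    (hM : ∀ (κ : Type u) [Field κ] [Algebra A κ], IsReduced (M ⊗[A] κ))
    {D L : Type u} [CommRing D] [IsDomain D] [IsNoetherianRing D] [IsIntegrallyClosed D] [Algebra A D] [Field L]
    [Algebra A L] [Algebra D L] [IsScalarTower A D L] [IsFractionRing D L] (z : M ⊗[A] L)
    (hz : (incl M D L).toRingHom.IsIntegralElem z) : z ∈ Set.range (incl M D L) := by
  classical
  obtain ⟨b, hb, w, hw⟩ := exists_denominator (B := D) z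
  let S := associatedPrimes D (D ⧸ Ideal.span {b})
  have : Fintype S := (associatedPrimes.finite D (D ⧸ Ideal.span {b})).fintype
  have hSp : ∀ P : S, (P : Ideal D).IsPrime := fun P => P.2.isPrime
  let W : S → Submodule A L := fun P => Submodule.span A
    {x | ∃ (a s : D), s ∉ (P : Ideal D) ∧ algebraMap D L s * x = algebraMap D L a}
  have hbK : algebraMap D L b ≠ 0 := (map_ne_zero_iff _ (IsFractionRing.injective D L)).mpr hb
  let q : D →ₗ[A] L := (LinearMap.mulLeft A (algebraMap D L b)⁻¹).comp (IsScalarTower.toAlgHom A D L).toLinearMap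
  let h : D →ₗ[A] ((P : S) → L ⧸ W P) := LinearMap.pi fun P => (W P).mkQ.comp q
  let μ : D →ₗ[A] D := LinearMap.mulLeft A b
  have hW : ∀ (P : S) (x : L), x ∈ W P → ∃ (a s : D), s ∉ (P : Ideal D) ∧ algebraMap D L s * x = algebraMap D L a := by
    intro P x hx
    induction hx using Submodule.span_induction with
    | mem x hx => exact hx
    | zero => exact ⟨0, 1, (hSp P).one_notMem, by rw [mul_zero, map_zero]⟩
    | add x y _ _ hx hy =>
      obtain ⟨a, s, hs, ha⟩ := hx
      obtain ⟨a', s', hs', ha'⟩ := hy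
      refine ⟨a * s' + a' * s, s * s', fun h => ((hSp P).mem_or_mem h).elim hs hs', ?_⟩
      rw [map_mul, map_add, map_mul, map_mul, ← ha, ← ha']; ring
    | smul c x _ hx =>
      obtain ⟨a, s, hs, ha⟩ := hx
      refine ⟨algebraMap A D c * a, s, hs, ?_⟩
      rw [map_mul, ← ha, Algebra.smul_def, IsScalarTower.algebraMap_apply A D L]; ring
  have hex : Function.Exact μ h := fun x => by
    refine ⟨fun hx => ?_, ?_⟩
    · by_contra hne
      have hne' : Ideal.Quotient.mk (Ideal.span {b}) x ≠ 0 := fun h => by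
        obtain ⟨a, ha⟩ := Ideal.mem_span_singleton'.mp (Ideal.Quotient.eq_zero_iff_mem.mp h)
        exact hne ⟨a, (mul_comm b a).trans ha⟩
      obtain ⟨P, hP, hle⟩ := exists_le_isAssociatedPrime_of_isNoetherianRing D _ hne'
      have h1 : q x ∈ W ⟨P, hP⟩ := (Submodule.Quotient.mk_eq_zero _).mp (congrFun hx ⟨P, hP⟩)
      obtain ⟨a, s, hs, ha⟩ := hW _ _ h1
      refine hs (hle (Submodule.mem_colon_singleton.mpr ?_))
      rw [Submodule.mem_bot]
      show Ideal.Quotient.mk (Ideal.span {b}) (s * x) = 0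
      refine Ideal.Quotient.eq_zero_iff_mem.mpr (Ideal.mem_span_singleton'.mpr ⟨a, IsFractionRing.injective D L ?_⟩)
      rw [map_mul, map_mul, ← ha]
      show algebraMap D L s * ((algebraMap D L b)⁻¹ * algebraMap D L x) * algebraMap D L b = _
      field_simp
    · rintro ⟨y, rfl⟩
      refine funext fun P => (Submodule.Quotient.mk_eq_zero _).mpr (Submodule.subset_span ⟨y, 1, (hSp P).one_notMem, ?_⟩)
      show algebraMap D L 1 * ((algebraMap D L b)⁻¹ * algebraMap D L (b * y)) = _
      rw [map_one, map_mul, one_mul, inv_mul_cancel_left₀ hbK]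
  have hqw : LinearMap.lTensor M q w = z := by
    have hq : ∀ u, LinearMap.lTensor M q u = ((1 : M) ⊗ₜ[A] (algebraMap D L b)⁻¹) * incl M D L u := fun u => by
      induction u using TensorProduct.induction_on with
      | zero => simp
      | tmul m a => simp [q]
      | add x y hx hy => rw [map_add, map_add, hx, hy, mul_add]
    rw [hq, ← hw, ← mul_assoc, Algebra.TensorProduct.tmul_mul_tmul, one_mul, inv_mul_cancel₀ hbK,
      ← Algebra.TensorProduct.one_def, one_mul]
  have hzero : LinearMap.lTensor M h w = 0 := by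
    refine (TensorProduct.piRight A A M fun P : S => L ⧸ W P).injective (funext fun P => ?_)
    have hnat : ∀ u, TensorProduct.piRight A A M (fun P : S => L ⧸ W P) (LinearMap.lTensor M h u) P =
        LinearMap.lTensor M (W P).mkQ (LinearMap.lTensor M q u) := fun u => by
      induction u using TensorProduct.induction_on with
      | zero => simp
      | tmul m a => simp [h]
      | add x y hx hy => simp only [map_add, Pi.add_apply, hx, hy]
    rw [hnat, hqw, map_zero, Pi.zero_apply]
    -- `z` lies in `M ⊗ D_P`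
    let V := Localization.AtPrime (P : Ideal D)
    let : Algebra V L := (IsLocalization.lift (M := (P : Ideal D).primeCompl) (S := V) (g := algebraMap D L)
      fun y => IsLocalization.map_units L (⟨y.1, (P : Ideal D).primeCompl_le_nonZeroDivisors y.2⟩ : nonZeroDivisors D)).toAlgebra
    have : IsScalarTower D V L := .of_algebraMap_eq fun a => by
      show _ = IsLocalization.lift _ (algebraMap D V a)
      rw [IsLocalization.lift_eq]
    have : IsScalarTower A V L := .of_algebraMap_eq fun a => by
      rw [IsScalarTower.algebraMap_apply A D L, IsScalarTower.algebraMap_apply D V L,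
        ← IsScalarTower.algebraMap_apply A D V]
    have hle : (P : Ideal D).primeCompl ≤ nonZeroDivisors D := (P : Ideal D).primeCompl_le_nonZeroDivisors
    have : IsDomain V := IsLocalization.isDomain_localization hle
    have : IsFractionRing V L :=
      IsFractionRing.isFractionRing_of_isDomain_of_isLocalization (P : Ideal D).primeCompl V L
    have : IsIntegrallyClosed V := isIntegrallyClosed_of_isLocalization _ (P : Ideal D).primeCompl hle
    have : IsNoetherianRing V := IsLocalization.isNoetherianRing (P : Ideal D).primeCompl V inferInstance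
    have hht : (maximalIdeal V).height = 1 := by
      rw [← WithBot.coe_inj, IsLocalRing.maximalIdeal_height_eq_ringKrullDim,
        IsLocalization.AtPrime.ringKrullDim_eq_height (P : Ideal D) V, S14359.result D b hb P P.2]
    have hmax : ∀ I : Ideal V, I ≠ ⊥ → I.IsPrime → I = maximalIdeal V := fun I h0 hI => by
      by_contra hne
      have h1 := Ideal.height_strict_mono_of_isPrime (lt_of_le_of_ne (le_maximalIdeal hI.ne_top) hne)
      have h2 := Ideal.height_strict_mono_of_isPrime (bot_lt_iff_ne_bot.mpr h0)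
      rw [hht] at h1
      exact not_lt_zero (h2.trans_le (ENat.lt_one_iff_eq_zero.mp h1).le)
    have hm0 : maximalIdeal V ≠ ⊥ := fun h => by rw [h, Ideal.height_bot] at hht; exact zero_ne_one hht
    obtain ⟨π, hπ⟩ := ((tfae_of_isNoetherianRing_of_isLocalRing_of_isDomain V).out 3 4 rfl rfl).mp
      (show IsIntegrallyClosed V ∧ ∀ I : Ideal V, I ≠ ⊥ → I.IsPrime → I = maximalIdeal V from ⟨inferInstance, hmax⟩)
    let g := Algebra.TensorProduct.map (AlgHom.id A M) (IsScalarTower.toAlgHom A D V)
    have hg : (incl M V L).toRingHom.comp g.toRingHom = (incl M D L).toRingHom := RingHom.ext fun u => by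
      show incl M V L (g u) = incl M D L u
      induction u using TensorProduct.induction_on with
      | zero => simp
      | tmul m a =>
        show m ⊗ₜ[A] algebraMap V L (algebraMap D V a) = m ⊗ₜ[A] algebraMap D L a
        rw [← IsScalarTower.algebraMap_apply]
      | add x y hx hy => simp only [map_add, hx, hy]
    obtain ⟨R, hR, hRz⟩ := hz
    have hzV : (incl M V L).toRingHom.IsIntegralElem z :=
      ⟨R.map g.toRingHom, hR.map _, by rw [eval₂_map, hg]; exact hRz⟩
    obtain ⟨v, hv⟩ := mem_range_of_principal hM hπ (fun h0 => hm0 (by rw [hπ, h0]; simp)) z hzV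
    rw [← hv]
    clear hv
    induction v using TensorProduct.induction_on with
    | zero => simp
    | tmul m c =>
      show m ⊗ₜ[A] (W P).mkQ (algebraMap V L c) = 0
      obtain ⟨a, s, rfl⟩ := IsLocalization.exists_mk'_eq (P : Ideal D).primeCompl c
      refine (congrArg (m ⊗ₜ[A] ·) ((Submodule.Quotient.mk_eq_zero (W P)).mpr ?_)).trans (tmul_zero _ m)
      refine Submodule.subset_span ⟨a, s.1, s.2, ?_⟩
      rw [IsScalarTower.algebraMap_apply D V L s.1, ← map_mul, mul_comm, IsLocalization.mk'_spec,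
        ← IsScalarTower.algebraMap_apply]
    | add x y hx hy => rw [map_add, map_add, hx, hy, add_zero]
  obtain ⟨v, hv⟩ := (Module.Flat.lTensor_exact M hex w).mp hzero
  refine ⟨v, ?_⟩
  rw [← hqw, ← hv, ← LinearMap.comp_apply, ← LinearMap.lTensor_comp]
  have : q.comp μ = (IsScalarTower.toAlgHom A D L).toLinearMap := LinearMap.ext fun x => by
    show (algebraMap D L b)⁻¹ * algebraMap D L (b * x) = algebraMap D L x
    rw [map_mul, inv_mul_cancel_left₀ hbK]
  rw [this]
  rfl

end Groth.Agent.NormalBase
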