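import Groth.Agent.FibreP.EssFinite
import Groth.Agent.S0543
import Groth.Agent.S6278
import Groth.Agent.NormalTensor.Criterion
import Mathlib.RingTheory.Henselian

/-!
# `A_{1+J}` and the `J`-adic completion
-/

universe u

namespace Groth.Agent.NormalBase.OnePlus

open TensorProduct

variable {A : Type u} [CommRing A] [IsNoetherianRing A] (J : Ideal A)

theorem isUnit_algebraMap {t : A} (ht : t ∈ MonoidHom.mker (Ideal.Quotient.mk J)) :
    IsUnit (algebraMap A (AdicCompletion J A) t) := by
  have := AdicCompletion.isAdicComplete_self J (IsNoetherian.noetherian J)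
  have h1 : t - 1 ∈ J := Ideal.Quotient.eq.mp (ht : Ideal.Quotient.mk J t = 1)
  have h2 : algebraMap A (AdicCompletion J A) (t - 1) ∈ Ideal.jacobson (⊥ : Ideal (AdicCompletion J A)) :=
    IsAdicComplete.le_jacobson_bot _ (Ideal.mem_map_of_mem _ h1)
  have h3 := Ideal.mem_jacobson_bot.mp h2 1
  rwa [mul_one, map_sub, map_one, sub_add_cancel] at h3

/-- `A_{1+J} → Â` is faithfully flat and normal when `A → Â` is normal. -/
theorem exists_algebra (hf : EGA4.IsNormalHom A (AdicCompletion J A)) :
    ∃ alg : Algebra (Localization (MonoidHom.mker (Ideal.Quotient.mk J))) (AdicCompletion J A),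
      letI := alg
      Module.FaithfullyFlat (Localization (MonoidHom.mker (Ideal.Quotient.mk J))) (AdicCompletion J A) ∧
        EGA4.IsNormalHom (Localization (MonoidHom.mker (Ideal.Quotient.mk J))) (AdicCompletion J A) := by
  let T := MonoidHom.mker (Ideal.Quotient.mk J)
  let A' := Localization T
  let Ah := AdicCompletion J A
  have : IsNoetherianRing Ah := S0543.result A J
  let hunit : ∀ t : T, IsUnit (algebraMap A Ah t) := fun t => isUnit_algebraMap J t.2
  let : Algebra A' Ah := (IsLocalization.lift (M := T) (g := algebraMap A Ah) hunit).toAlgebra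
  have : IsScalarTower A A' Ah := .of_algebraMap_eq fun x => (IsLocalization.lift_eq hunit x).symm
  refine ⟨inferInstanceAs (Algebra A' Ah), ?_⟩
  have := hf.1
  have : Module.Flat A' Ah := (Module.flat_iff_of_isLocalization A' T Ah).mpr inferInstance
  refine ⟨⟨fun {M} hM h => ?_⟩, ‹Module.Flat A' Ah›, ?_⟩
  · rw [Ideal.smul_top_eq_map] at h
    have h1 : (1 : Ah) ∈ M.map (algebraMap A' Ah) := h.ge (Submodule.mem_top (x := (1 : Ah)))
    let m := M.comap (algebraMap A A')
    have hJm : J ≤ m := by
      intro x hx
      by_contra hxm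
      obtain ⟨y, i, hi, hyi⟩ := hM.exists_inv (show algebraMap A A' x ∉ M from hxm)
      obtain ⟨a, t, rfl⟩ := IsLocalization.exists_mk'_eq T y
      have ht : (t : A) - a * x ∈ T := by
        show Ideal.Quotient.mk J ((t : A) - a * x) = 1
        rw [map_sub, map_mul, Ideal.Quotient.eq_zero_iff_mem.mpr hx, mul_zero, sub_zero]
        exact t.2
      refine hM.ne_top (M.eq_top_of_isUnit_mem (x := algebraMap A A' ((t : A) - a * x)) ?_
        (IsLocalization.map_units A' (⟨_, ht⟩ : T)))
      have : algebraMap A A' ((t : A) - a * x) = algebraMap A A' t * i := by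
        rw [map_sub, map_mul, ← IsLocalization.mk'_spec A' a t]
        linear_combination -(algebraMap A A' t) * hyi
      rw [this]
      exact M.mul_mem_left _ hi
    let π : Ah →+* A ⧸ m := (Ideal.Quotient.factor hJm).comp (AdicCompletion.evalOneₐ J).toRingHom
    have hπ : ∀ a : A, π (algebraMap A Ah a) = Ideal.Quotient.mk m a := fun a => by
      show Ideal.Quotient.factor hJm (AdicCompletion.evalOneₐ J (algebraMap A Ah a)) = _
      rw [AlgHom.commutes]
      rfl
    have hle : M.map (algebraMap A' Ah) ≤ RingHom.ker π := Ideal.map_le_iff_le_comap.mpr fun z hz => by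
      obtain ⟨a, t, rfl⟩ := IsLocalization.exists_mk'_eq T z
      have ha : a ∈ m := by
        show algebraMap A A' a ∈ M
        rw [← IsLocalization.mk'_spec A' a t]
        exact M.mul_mem_right _ hz
      have h2 : π (algebraMap A' Ah (IsLocalization.mk' A' a t)) * π (algebraMap A Ah t) = 0 := by
        rw [← map_mul, IsScalarTower.algebraMap_apply A A' Ah, ← map_mul, IsLocalization.mk'_spec,
          ← IsScalarTower.algebraMap_apply, hπ, Ideal.Quotient.eq_zero_iff_mem.mpr ha]
      exact ((hunit t).map π).mul_left_eq_zero.mp h2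
    refine (Ideal.comap_ne_top _ hM.ne_top : m ≠ ⊤) ((Ideal.eq_top_iff_one m).mpr (Ideal.Quotient.eq_zero_iff_mem.mp ?_))
    rw [map_one, ← map_one π]
    exact hle h1
  · have hP := FibreP.good_isNormalRing.{u}
    have : Algebra.EssFiniteType A A' := Algebra.EssFiniteType.of_isLocalization A' T
    have h1 := hP.geomFib_baseChange (A := A) (B := Ah) hf.2 A'
    have := IsLocalization.tensorProduct_compatibleSMul T A' A' Ah
    let e : A' ⊗[A] Ah ≃ₐ[A'] Ah :=
      (Algebra.TensorProduct.equivOfCompatibleSMul A A' A' A' Ah).symm.trans (Algebra.TensorProduct.lid A' Ah)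
    intro p _ K _ _ hK
    exact hP.iso _ _ (Algebra.TensorProduct.congr (AlgEquiv.refl (R := p.ResidueField) (A₁ := K))
      (Algebra.TensorProduct.congr (AlgEquiv.refl (R := p.ResidueField) (A₁ := p.ResidueField)) e)).toRingEquiv (h1 p K hK)

/-- EGA IV 7.8.3 (v) style comparison. -/
theorem isNormalRing_iff (hf : EGA4.IsNormalHom A (AdicCompletion J A)) :
    EGA4.IsNormalRing (Localization (MonoidHom.mker (Ideal.Quotient.mk J))) ↔
      EGA4.IsNormalRing (AdicCompletion J A) := by
  let A' := Localization (MonoidHom.mker (Ideal.Quotient.mk J))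
  obtain ⟨alg, hff, hN⟩ := exists_algebra J hf
  letI := alg
  haveI := hff
  have : IsNoetherianRing (AdicCompletion J A) := S0543.result A J
  have : IsNoetherianRing A' := IsLocalization.isNoetherianRing (MonoidHom.mker (Ideal.Quotient.mk J)) A' inferInstance
  have hP := FibreP.good_isNormalRing.{u}
  refine ⟨fun h => hP.asc A' _ h fun Q _ => ?_, fun h => hP.desc A' (AdicCompletion J A) h⟩
  exact hP.iso _ _ (Algebra.TensorProduct.lid Q.ResidueField (Q.Fiber (AdicCompletion J A))).toRingEquiv
    (hN.2 Q Q.ResidueField inferInstance)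

/-- Connected spectrum means only trivial idempotents. -/
theorem connectedSpace_iff (R : Type u) [CommRing R] :
    ConnectedSpace (PrimeSpectrum R) ↔ Nontrivial R ∧ ∀ e : R, IsIdempotentElem e → e = 0 ∨ e = 1 := by
  refine ⟨fun h => ⟨PrimeSpectrum.nonempty_iff_nontrivial.mp inferInstance, fun e he => ?_⟩, fun ⟨hn, hid⟩ => ?_⟩
  · have hcl : IsClopen (PrimeSpectrum.basicOpen e : Set (PrimeSpectrum R)) :=
      PrimeSpectrum.isClopen_iff.mpr ⟨e, he, rfl⟩
    rcases _root_.isClopen_iff.mp hcl with h | h
    · refine Or.inl (he.eq_zero_of_isNilpotent ?_)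
      rw [← PrimeSpectrum.basicOpen_eq_bot_iff]
      exact TopologicalSpace.Opens.ext h
    · refine Or.inr ((IsUnit.mul_eq_left ?_).mp he)
      by_contra hu
      obtain ⟨M, hM, heM⟩ := exists_max_ideal_of_mem_nonunits hu
      have hmem : (⟨M, hM.isPrime⟩ : PrimeSpectrum R) ∈ (PrimeSpectrum.basicOpen e : Set (PrimeSpectrum R)) :=
        h ▸ Set.mem_univ _
      exact hmem heM
  · have : Nonempty (PrimeSpectrum R) := PrimeSpectrum.nonempty_iff_nontrivial.mpr hn
    have : PreconnectedSpace (PrimeSpectrum R) := preconnectedSpace_iff_clopen.mpr fun S hS => by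
      obtain ⟨e, he, rfl⟩ := PrimeSpectrum.isClopen_iff.mp hS
      rcases hid e he with rfl | rfl
      · left; simp
      · right; simp
    exact ⟨‹_›⟩

/-- Idempotents of `Â` and of `A/J` correspond. -/
theorem idempotents_trivial_iff :
    (Nontrivial (A ⧸ J) ∧ ∀ e : A ⧸ J, IsIdempotentElem e → e = 0 ∨ e = 1) ↔
      (Nontrivial (AdicCompletion J A) ∧ ∀ e : AdicCompletion J A, IsIdempotentElem e → e = 0 ∨ e = 1) := by
  let Ah := AdicCompletion J A
  let I := J.map (algebraMap A Ah)
  have hc : IsAdicComplete I Ah := AdicCompletion.isAdicComplete_self _ (IsNoetherian.noetherian J)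
  have hker : RingHom.ker (AdicCompletion.evalOneₐ J).toRingHom = I :=
    AdicCompletion.ker_evalOneₐ_eq_map J (IsNoetherian.noetherian J)
  have hjac : I ≤ Ideal.jacobson (⊥ : Ideal Ah) := IsAdicComplete.le_jacobson_bot _
  have hinj : ∀ e : Ah, IsIdempotentElem e → AdicCompletion.evalOneₐ J e = 0 → e = 0 := fun e he h => by
    have hm : e ∈ I := hker ▸ (RingHom.mem_ker.mpr h)
    have hu := Ideal.mem_jacobson_bot.mp (hjac hm) (-1)
    have h0 : e * (e * -1 + 1) = 0 := by rw [mul_add, ← mul_assoc, he.eq]; ring
    exact hu.mul_left_eq_zero.mp h0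
  constructor
  · rintro ⟨hn, hid⟩
    refine ⟨(AdicCompletion.evalOneₐ J).toRingHom.domain_nontrivial, fun e he => ?_⟩
    rcases hid _ (he.map (AdicCompletion.evalOneₐ J)) with h | h
    · exact Or.inl (hinj e he h)
    · refine Or.inr (sub_eq_zero.mp (hinj (1 - e) he.one_sub (by rw [map_sub, map_one, h, sub_self]))).symm
  · rintro ⟨hn, hid⟩
    refine ⟨?_, fun e he => ?_⟩
    · by_contra hnt
      rw [not_nontrivial_iff_subsingleton] at hnt
      exact one_ne_zero (hinj 1 IsIdempotentElem.one (Subsingleton.elim _ _))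
    · obtain ⟨a, rfl⟩ := AdicCompletion.evalOneₐ_surjective J e
      obtain ⟨b, hb, hba⟩ := HenselianRing.is_henselian (R := Ah) (I := I) (Polynomial.X ^ 2 - Polynomial.X)
        (Polynomial.monic_X_pow_sub (by rw [Polynomial.degree_X]; norm_num)) a (by
          rw [← hker, RingHom.mem_ker]
          simp only [Polynomial.eval_sub, Polynomial.eval_pow, Polynomial.eval_X, AlgHom.toRingHom_eq_coe, RingHom.coe_coe,
            map_sub, map_pow]
          rw [pow_two, he.eq, sub_self]) (by
          refine IsUnit.of_mul_eq_one (Ideal.Quotient.mk I (2 * a - 1)) ?_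
          rw [← map_mul, ← map_one (Ideal.Quotient.mk I), Ideal.Quotient.eq, ← hker, RingHom.mem_ker]
          simp only [Polynomial.derivative_sub, Polynomial.derivative_X_pow, Polynomial.derivative_X, Polynomial.eval_sub,
            Polynomial.eval_mul, Polynomial.eval_C, Polynomial.eval_pow, Polynomial.eval_X, Polynomial.eval_one,
            AlgHom.toRingHom_eq_coe, RingHom.coe_coe, map_sub, map_mul, map_one, map_pow, map_natCast]
          norm_num [map_ofNat]
          linear_combination 4 * he.eq)
      have hbid : IsIdempotentElem b := by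
        have : b ^ 2 - b = 0 := by simpa using hb
        rwa [sub_eq_zero, pow_two] at this
      have hab : AdicCompletion.evalOneₐ J b = AdicCompletion.evalOneₐ J a := by
        rw [← sub_eq_zero, ← map_sub]
        exact RingHom.mem_ker.mp (hker.symm ▸ hba)
      rcases hid b hbid with rfl | rfl
      · exact Or.inl (by rw [← hab, map_zero])
      · exact Or.inr (by rw [← hab, map_one])

/-- A Noetherian normal ring with connected spectrum is an integrally closed domain. -/
theorem isDomain_of_connected {R : Type u} [CommRing R] [IsNoetherianRing R] (h : EGA4.IsNormalRing R)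
    (hn : Nontrivial R) (hid : ∀ e : R, IsIdempotentElem e → e = 0 ∨ e = 1) : IsDomain R := by
  have := NormalTensor.isReduced_of_isNormalRing h
  let Q := FractionRing R
  have := NormalTensor.isArtinianRing_fractionRing R
  have : IsReduced Q := isReduced_localizationPreserves (nonZeroDivisors R) Q inferInstance
  have : Nontrivial Q := (IsFractionRing.injective R Q).nontrivial
  have hidQ : ∀ e : Q, IsIdempotentElem e → e = 0 ∨ e = 1 := fun e he => by
    have hint : IsIntegral R e := ⟨Polynomial.X ^ 2 - Polynomial.X,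
      Polynomial.monic_X_pow_sub (by rw [Polynomial.degree_X]; norm_num), by
        simp [pow_two, he.eq]⟩
    obtain ⟨a, rfl⟩ := (S6278.result R h).algebraMap_eq_of_integral hint
    rcases hid a (IsFractionRing.injective R Q (by rw [map_mul]; exact he.eq)) with rfl | rfl
    · exact Or.inl (map_zero _)
    · exact Or.inr (map_one _)
  obtain ⟨m, hm⟩ := Ideal.exists_maximal Q
  have huniq : ∀ m' : Ideal Q, m'.IsMaximal → m' = m := fun m' hm' => by
    classical
    by_contra hne
    let e := IsArtinianRing.equivPi Q
    let i : MaximalSpectrum Q := ⟨m, hm⟩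
    let j : MaximalSpectrum Q := ⟨m', hm'⟩
    have hij : j ≠ i := fun h => hne (congrArg MaximalSpectrum.asIdeal h)
    let ε := e.symm (Pi.single (M := fun j : MaximalSpectrum Q => Q ⧸ j.asIdeal) i 1)
    have hε : IsIdempotentElem ε := by
      show ε * ε = ε
      rw [← map_mul, ← Pi.single_mul, one_mul]
    rcases hidQ ε hε with h0 | h1
    · have := congrFun (congrArg e h0) i
      rw [e.apply_symm_apply, Pi.single_eq_same, map_zero] at this
      exact (Ideal.Quotient.nontrivial_iff.mpr hm.ne_top).exists_pair_ne.elim fun a ⟨b, hab⟩ => hab (by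
        rw [← mul_one a, ← mul_one b, show (1 : Q ⧸ m) = 0 from this, mul_zero, mul_zero])
    · have := congrFun (congrArg e h1) j
      rw [e.apply_symm_apply, Pi.single_eq_of_ne hij, map_one] at this
      exact (Ideal.Quotient.nontrivial_iff.mpr hm'.ne_top).exists_pair_ne.elim fun a ⟨b, hab⟩ => hab (by
        rw [← mul_one a, ← mul_one b, show (1 : Q ⧸ m') = 0 from this.symm, mul_zero, mul_zero])
  have : IsLocalRing Q := IsLocalRing.of_unique_max_ideal ⟨m, hm, huniq⟩
  let : Field Q := (IsArtinianRing.isField_of_isReduced_of_isLocalRing Q).toField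
  exact (IsFractionRing.injective R Q).isDomain (algebraMap R Q)

end Groth.Agent.NormalBase.OnePlus
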